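import Mathlib

set_option linter.style.haveILetI false
set_option linter.unusedVariables false
set_option linter.unusedSectionVars false
set_option autoImplicit false
set_option backward.isDefEq.respectTransparency.types false
set_option synthInstance.maxHeartbeats 400000
set_option maxHeartbeats 1600000

namespace Groth.Agent.Helper7.ProjF

open CategoryTheory CategoryTheory.Limits AlgebraicGeometry TopologicalSpace Opposite IsLocalRing

universe u

/-! helper7: the ideal of the base change of a closed immersion at a point is contained in every ideal containing the image of the ideal of the closed immersion (via morphisms from spectra of local rings) -/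

variable {X' X D : Scheme.{u}} (f : X' ⟶ X) (i : D ⟶ X) [IsClosedImmersion i]

theorem pullback_pt_eq (z : ↑(pullback f i)) :
    f (pullback.fst f i z) = i (pullback.snd f i z) := by
  show (pullback.fst f i ≫ f) z = (pullback.snd f i ≫ i) z
  rw [pullback.condition]

/-- the ideal of the base change of a closed immersion is contained in every ideal of the local
ring containing the image of the ideal of the closed immersion -/
theorem ker_stalkMap_fst_le (z : ↑(pullback f i))
    (J : Ideal (X'.presheaf.stalk (pullback.fst f i z)))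
    (hJ : ∀ a : X.presheaf.stalk (i (pullback.snd f i z)),
      (i.stalkMap (pullback.snd f i z)).hom a = 0 →
        (f.stalkMap (pullback.fst f i z)).hom
          ((X.presheaf.stalkSpecializes (specializes_of_eq (pullback_pt_eq f i z))).hom a) ∈ J) :
    RingHom.ker ((pullback.fst f i).stalkMap z).hom ≤ J := by
  classical
  by_cases hJt : J = ⊤
  · rw [hJt]
    exact le_top
  have hsp : f (pullback.fst f i z) ⤳ i (pullback.snd f i z) :=
    specializes_of_eq (pullback_pt_eq f i z)
  haveI : Nontrivial (X'.presheaf.stalk (pullback.fst f i z) ⧸ J) :=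
    Ideal.Quotient.nontrivial_iff.mpr hJt
  haveI : IsLocalRing (X'.presheaf.stalk (pullback.fst f i z) ⧸ J) :=
    IsLocalRing.of_surjective' (Ideal.Quotient.mk J) Ideal.Quotient.mk_surjective
  haveI hloc : IsLocalHom (Ideal.Quotient.mk J) :=
    IsLocalHom.of_surjective (Ideal.Quotient.mk J) Ideal.Quotient.mk_surjective
  let RJ : CommRingCat.{u} := CommRingCat.of (X'.presheaf.stalk (pullback.fst f i z) ⧸ J)
  let q : X'.presheaf.stalk (pullback.fst f i z) ⟶ RJ := CommRingCat.ofHom (Ideal.Quotient.mk J)
  haveI : IsLocalRing RJ := inferInstanceAs (IsLocalRing (X'.presheaf.stalk (pullback.fst f i z) ⧸ J))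
  haveI : IsLocalHom q.hom := hloc
  -- the map from the local ring of D
  let ρ : X.presheaf.stalk (i (pullback.snd f i z)) →+* RJ :=
    (Ideal.Quotient.mk J).comp ((f.stalkMap (pullback.fst f i z)).hom.comp
      (X.presheaf.stalkSpecializes hsp).hom)
  have hρ : RingHom.ker (i.stalkMap (pullback.snd f i z)).hom ≤ RingHom.ker ρ := by
    intro a ha
    rw [RingHom.mem_ker] at ha ⊢
    exact Ideal.Quotient.eq_zero_iff_mem.mpr (hJ a ha)
  have hsurj : Function.Surjective (i.stalkMap (pullback.snd f i z)).hom :=
    i.stalkMap_surjective _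
  let θ : D.presheaf.stalk (pullback.snd f i z) ⟶ RJ :=
    CommRingCat.ofHom ((i.stalkMap (pullback.snd f i z)).hom.liftOfSurjective hsurj ⟨ρ, hρ⟩)
  have hθ : i.stalkMap (pullback.snd f i z) ≫ θ =
      X.presheaf.stalkSpecializes hsp ≫ f.stalkMap (pullback.fst f i z) ≫ q := by
    ext a
    exact RingHom.liftOfSurjective_comp_apply _ hsurj ⟨ρ, hρ⟩ a
  let φ : Spec RJ ⟶ X' := Spec.map q ≫ X'.fromSpecStalk (pullback.fst f i z)
  let ψ : Spec RJ ⟶ D := Spec.map θ ≫ D.fromSpecStalk (pullback.snd f i z)
  have hφψ : φ ≫ f = ψ ≫ i := by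
    show (Spec.map q ≫ X'.fromSpecStalk (pullback.fst f i z)) ≫ f =
      (Spec.map θ ≫ D.fromSpecStalk (pullback.snd f i z)) ≫ i
    rw [Category.assoc, Category.assoc, ← Scheme.SpecMap_stalkMap_fromSpecStalk,
      ← Scheme.SpecMap_stalkMap_fromSpecStalk,
      ← Scheme.SpecMap_stalkSpecializes_fromSpecStalk hsp,
      ← Spec.map_comp_assoc, ← Spec.map_comp_assoc, ← Spec.map_comp_assoc, hθ]
  let h' : Spec RJ ⟶ pullback f i := pullback.lift φ ψ hφψ
  have hh' : h' ≫ pullback.fst f i = φ := pullback.lift_fst _ _ _
  have hφcp : φ (closedPoint RJ) = pullback.fst f i z := by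
    show (Spec.map q ≫ X'.fromSpecStalk (pullback.fst f i z)) (closedPoint RJ) = _
    rw [Scheme.Hom.comp_apply, Spec_closedPoint, Scheme.fromSpecStalk_closedPoint]
  have hcp : h' (closedPoint RJ) = z := by
    apply (pullback.fst f i).isClosedEmbedding.injective
    have e1 : (h' ≫ pullback.fst f i) (closedPoint RJ) = φ (closedPoint RJ) := by rw [hh']
    exact e1.trans hφcp
  intro r hr
  rw [RingHom.mem_ker] at hr
  obtain ⟨U, hxU, b, rfl⟩ := TopCat.Presheaf.exists_germ_eq X'.presheaf r
  have hφU : φ (closedPoint RJ) ∈ U := by rw [hφcp]; exact hxU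
  have h1 := Scheme.germ_stalkClosedPointTo_Spec_fromSpecStalk (X := X') (R := RJ)
    (x := pullback.fst f i z) q U hφU
  have h1b := congrArg (fun m => m.hom b) h1
  simp only [CommRingCat.hom_comp, RingHom.comp_apply] at h1b
  have h2 : ∀ (φ' : Spec RJ ⟶ X') (e : φ' = φ) (hU' : φ' (closedPoint RJ) ∈ U),
      (Scheme.stalkClosedPointTo φ').hom ((X'.presheaf.germ U _ hU').hom b) =
        (Scheme.stalkClosedPointTo φ).hom ((X'.presheaf.germ U _ hφU).hom b) := by
    rintro φ' rfl hU'
    rfl
  have hU' : (h' ≫ pullback.fst f i) (closedPoint RJ) ∈ U := by rw [hh']; exact hφU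
  have h3 := h2 (h' ≫ pullback.fst f i) hh' hU'
  have h4 : ∀ (z' : ↑(pullback f i)) (e : z' = z) (hU'' : pullback.fst f i z' ∈ U),
      ((pullback.fst f i).stalkMap z').hom ((X'.presheaf.germ U _ hU'').hom b) = 0 := by
    rintro z' rfl hU''
    exact hr
  have h5 : (Scheme.stalkClosedPointTo (h' ≫ pullback.fst f i)).hom
      ((X'.presheaf.germ U _ hU').hom b) = 0 := by
    have h40 := h4 (h' (closedPoint RJ)) hcp hU'
    have e : (Scheme.stalkClosedPointTo (h' ≫ pullback.fst f i)).hom
        ((X'.presheaf.germ U _ hU').hom b) =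
        (Scheme.stalkClosedPointTo h').hom
          (((pullback.fst f i).stalkMap (h' (closedPoint RJ))).hom
            ((X'.presheaf.germ U _ hU').hom b)) := by
      rw [Scheme.stalkClosedPointTo_comp]
      rfl
    rw [e]
    exact (congrArg (Scheme.stalkClosedPointTo h').hom h40).trans (map_zero _)
  rw [h5] at h3
  rw [← h3] at h1b
  exact Ideal.Quotient.eq_zero_iff_mem.mp h1b.symm

end Groth.Agent.Helper7.ProjF
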