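import Mathlib
import Groth.Agent.Lib.Helper7.ProjF.Ker

set_option linter.style.haveILetI false
set_option linter.unusedVariables false
set_option linter.unusedSectionVars false
set_option autoImplicit false
set_option backward.isDefEq.respectTransparency.types false
set_option synthInstance.maxHeartbeats 400000
set_option maxHeartbeats 1600000

namespace Groth.Agent.Helper7.ProjF

open CategoryTheory CategoryTheory.Limits AlgebraicGeometry TopologicalSpace Opposite IsLocalRing

universe u

/-! helper7: the fibre rings of a morphism and of its base change to a closed subscheme have the same length -/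

section Alg

theorem length_quot_of_surjective {R S : Type u} [CommRing R] [CommRing S] (π : R →+* S)
    (hπ : Function.Surjective π) (𝔞 : Ideal R) (hker : RingHom.ker π ≤ 𝔞) :
    Module.length S (S ⧸ Ideal.map π 𝔞) = Module.length R (R ⧸ 𝔞) := by
  letI : Algebra R S := π.toAlgebra
  have hsurj' : Function.Surjective (algebraMap R S) := hπ
  rw [← Module.length_eq_of_surjective (S := R) (R := S) (M := S ⧸ Ideal.map π 𝔞) hsurj']
  have hφsurj : Function.Surjective (Algebra.ofId R (S ⧸ Ideal.map π 𝔞)) := by
    intro y
    obtain ⟨b, rfl⟩ := Ideal.Quotient.mk_surjective y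
    obtain ⟨a, rfl⟩ := hπ b
    exact ⟨a, rfl⟩
  have hkerφ : RingHom.ker (Algebra.ofId R (S ⧸ Ideal.map π 𝔞)) = 𝔞 := by
    ext a
    rw [RingHom.mem_ker]
    change Ideal.Quotient.mk (Ideal.map π 𝔞) (π a) = 0 ↔ _
    rw [Ideal.Quotient.eq_zero_iff_mem]
    constructor
    · intro h
      have h2 : a ∈ Ideal.comap π (Ideal.map π 𝔞) := h
      rw [Ideal.comap_map_of_surjective π hπ] at h2
      have hle : 𝔞 ⊔ Ideal.comap π ⊥ ≤ 𝔞 := sup_le le_rfl hker
      exact hle h2
    · intro h
      exact Ideal.mem_map_of_mem π h
  let a1 := Ideal.quotientKerAlgEquivOfSurjective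
    (f := Algebra.ofId R (S ⧸ Ideal.map π 𝔞)) hφsurj
  let a2 := (Ideal.quotientEquivAlgOfEq R hkerφ.symm).trans a1
  exact a2.toLinearEquiv.length_eq.symm

end Alg

variable {X' X D : Scheme.{u}} (f : X' ⟶ X) (i : D ⟶ X) [IsClosedImmersion i]

/-- the fibre rings of a morphism and of its base change to a closed subscheme have the same
length -/
theorem length_fibre_pullback (z : ↑(pullback f i)) :
    Module.length ((pullback f i).presheaf.stalk z)
      ((pullback f i).presheaf.stalk z ⧸ Ideal.map ((pullback.snd f i).stalkMap z).hom
        (maximalIdeal (D.presheaf.stalk (pullback.snd f i z)))) =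
    Module.length (X'.presheaf.stalk (pullback.fst f i z))
      (X'.presheaf.stalk (pullback.fst f i z) ⧸ Ideal.map (f.stalkMap (pullback.fst f i z)).hom
        (maximalIdeal (X.presheaf.stalk (f (pullback.fst f i z))))) := by
  have hπ : Function.Surjective ((pullback.fst f i).stalkMap z).hom :=
    (pullback.fst f i).stalkMap_surjective z
  have hpt := pullback_pt_eq f i z
  have hker : RingHom.ker ((pullback.fst f i).stalkMap z).hom ≤
      Ideal.map (f.stalkMap (pullback.fst f i z)).hom
        (maximalIdeal (X.presheaf.stalk (f (pullback.fst f i z)))) := by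
    apply ker_stalkMap_fst_le
    intro a ha
    apply Ideal.mem_map_of_mem
    rw [IsLocalRing.mem_maximalIdeal, mem_nonunits_iff]
    intro hu
    have hback : (X.presheaf.stalkSpecializes (specializes_of_eq hpt.symm)).hom
        ((X.presheaf.stalkSpecializes (specializes_of_eq hpt)).hom a) = a := by
      have h1 := TopCat.Presheaf.stalkSpecializes_comp_apply X.presheaf
        (specializes_of_eq hpt.symm) (specializes_of_eq hpt) a
      rw [TopCat.Presheaf.stalkSpecializes_refl] at h1
      exact h1
    have hua : IsUnit a := by
      rw [← hback]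
      exact hu.map _
    have hu0 : IsUnit ((i.stalkMap (pullback.snd f i z)).hom a) := hua.map _
    rw [ha] at hu0
    exact not_isUnit_zero hu0
  have h1 := length_quot_of_surjective _ hπ _ hker
  rw [← h1]
  have hmap : Ideal.map ((pullback.fst f i).stalkMap z).hom
      (Ideal.map (f.stalkMap (pullback.fst f i z)).hom
        (maximalIdeal (X.presheaf.stalk (f (pullback.fst f i z))))) =
      Ideal.map ((pullback.snd f i).stalkMap z).hom
        (maximalIdeal (D.presheaf.stalk (pullback.snd f i z))) := by
    have h2 := Scheme.Hom.stalkMap_congr_hom (pullback.fst f i ≫ f) (pullback.snd f i ≫ i)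
      pullback.condition z
    rw [Scheme.Hom.stalkMap_comp, Scheme.Hom.stalkMap_comp] at h2
    have h3 : ((pullback.fst f i).stalkMap z).hom.comp
        (f.stalkMap (pullback.fst f i z)).hom =
        (((pullback.snd f i).stalkMap z).hom.comp (i.stalkMap (pullback.snd f i z)).hom).comp
          (X.presheaf.stalkCongr (Inseparable.of_eq hpt)).hom.hom :=
      congrArg CommRingCat.Hom.hom h2
    rw [Ideal.map_map, h3, ← Ideal.map_map, ← Ideal.map_map]
    congr 1
    rw [map_maximalIdeal_of_surjective _ ((ConcreteCategory.isIso_iff_bijective _).1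
      inferInstance).2]
    exact map_maximalIdeal_of_surjective _ (i.stalkMap_surjective _)
  rw [hmap]

end Groth.Agent.Helper7.ProjF
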