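import Mathlib
import Groth.Prelude.Def_C1
import Groth.Prelude.Def_Cyc
import Groth.Agent.Lib.Helper7.KL.FlatC1
import Groth.Agent.Lib.Helper7.ProjF.Ker

set_option linter.style.haveILetI false
set_option linter.unusedVariables false
set_option linter.unusedSectionVars false
set_option autoImplicit false
set_option backward.isDefEq.respectTransparency.types false
set_option synthInstance.maxHeartbeats 400000
set_option maxHeartbeats 1600000

namespace Groth.Agent.Helper7.ProjF

open CategoryTheory CategoryTheory.Limits AlgebraicGeometry TopologicalSpace Opposite IsLocalRing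
open Groth.Agent.Helper7.DivFin Groth.Agent.Helper7.KL Groth.Agent.Lead.SecOrd
open Groth.Agent.Helper1.QcCech Groth.Agent.Helper1.LGen Groth.Agent.Lead.RkSch
open Groth.Agent.Helper1.PullSec Groth.Agent.Helper1.PullGen

universe u

/-! helper7: sections with the base changed zero scheme versus pulled back sections: coefficients generate the same ideal in the local rings, equality of orders away from the zero scheme -/

section Alg

theorem exists_unit_of_gen {R M : Type*} [CommRing R] [AddCommGroup M] [Module R M] (m₀ t : M)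
    (hinj : ∀ ρ : R, ρ • m₀ = 0 → ρ = 0) (hsurj : ∀ v : M, ∃ ρ : R, ρ • m₀ = v)
    (ht : Submodule.span R {t} = ⊤) (c f : R) (h : c • m₀ = f • t) :
    ∃ e e' : R, e * e' = 1 ∧ c = f * e := by
  obtain ⟨e₁, he₁⟩ := hsurj t
  have hm : m₀ ∈ Submodule.span R {t} := by rw [ht]; trivial
  obtain ⟨e₂, he₂⟩ := Submodule.mem_span_singleton.mp hm
  have h1 : (e₁ * e₂ - 1) • m₀ = 0 := by
    rw [sub_smul, one_smul, mul_comm, mul_smul, he₁, he₂, sub_self]
  have h2 : e₁ * e₂ = 1 := sub_eq_zero.mp (hinj _ h1)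
  refine ⟨e₁, e₂, h2, ?_⟩
  have h3 : (c - f * e₁) • m₀ = 0 := by
    rw [sub_smul, mul_smul, he₁, h, sub_self]
  exact sub_eq_zero.mp (hinj _ h3)

end Alg

variable {X' X D : Scheme.{u}}

/-- the coefficient of a global section with respect to a local generator -/
theorem exists_coeff (L : X.Modules) {W : X.Opens} {a : Γ(L, W)} (ha : IsGen L W a)
    (s : L.presheaf.obj (Opposite.op ⊤)) :
    ∃ c : Γ(X, W), ∀ (y : X) (hy : y ∈ W), (L.presheaf.germ ⊤ y trivial) s =
      (X.presheaf.germ W y hy) c • (L.presheaf.germ W y hy) a := by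
  obtain ⟨c, hc⟩ := (ha W le_rfl).2 (res L (le_top : W ≤ ⊤) s)
  simp only [] at hc
  refine ⟨c, fun y hy => ?_⟩
  have h0 := congrArg (L.presheaf.germ W y hy) hc
  rw [gsm, germ_res, germ_res] at h0
  exact h0.symm

/-- germs of a section killed by a closed immersion are killed by every morphism factoring
through it -/
theorem germ_app_eq_zero_of_factor {D' : Scheme.{u}} (i : D ⟶ X) (g : D' ⟶ D) (m : D' ⟶ X)
    (hm : m = g ≫ i) (z : D') (W : X.Opens) (c : Γ(X, W)) (hz : m z ∈ W) (hz' : i (g z) ∈ W)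
    (h0 : (i.stalkMap (g z)).hom ((X.presheaf.germ W (i (g z)) hz').hom c) = 0) :
    (D'.presheaf.germ (m ⁻¹ᵁ W) z hz).hom ((m.app W).hom c) = 0 := by
  subst hm
  have h1 : (D'.presheaf.germ ((g ≫ i) ⁻¹ᵁ W) z hz).hom (((g ≫ i).app W).hom c) =
      (g.stalkMap z).hom ((i.stalkMap (g z)).hom ((X.presheaf.germ W (i (g z)) hz').hom c)) := by
    have e1 := Scheme.Hom.germ_stalkMap_apply i W (g z) hz' c
    have e2 := Scheme.Hom.germ_stalkMap_apply g (i ⁻¹ᵁ W) z hz' ((i.app W).hom c)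
    exact (e2.symm.trans (congrArg (g.stalkMap z).hom e1.symm) :)
  rw [h1, h0, map_zero]

/-- the coefficients of a section with the base changed zero scheme and of the pulled back section
generate the same ideal in the local rings -/
theorem exists_ratio_coeff (f : X' ⟶ X) (L : X.Modules) (s : L.presheaf.obj (Opposite.op ⊤))
    (i : D ⟶ X) [IsClosedImmersion i] (hD : Cyc.IsZeroSchemeOf i L s)
    (s' : ((Scheme.Modules.pullback f).obj L).presheaf.obj (Opposite.op ⊤))
    (hD' : Cyc.IsZeroSchemeOf (pullback.fst f i) ((Scheme.Modules.pullback f).obj L) s')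
    (x : X') (W : X.Opens) (a : Γ(L, W)) (ha : IsGen L W a) (hfxW : f x ∈ W)
    (c : Γ(X, W)) (hc : ∀ (y : X) (hy : y ∈ W), (L.presheaf.germ ⊤ y trivial) s =
      (X.presheaf.germ W y hy) c • (L.presheaf.germ W y hy) a)
    (c' : Γ(X', f ⁻¹ᵁ W))
    (hc' : ∀ (y : X') (hy : y ∈ f ⁻¹ᵁ W),
      (((Scheme.Modules.pullback f).obj L).presheaf.germ ⊤ y trivial) s' =
        (X'.presheaf.germ (f ⁻¹ᵁ W) y hy) c' •
          (((Scheme.Modules.pullback f).obj L).presheaf.germ (f ⁻¹ᵁ W) y hy) (σ f L W a)) :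
    ∃ A B : X'.presheaf.stalk x,
      (X'.presheaf.germ (f ⁻¹ᵁ W) x hfxW).hom c' =
        A * (X'.presheaf.germ (f ⁻¹ᵁ W) x hfxW).hom ((f.app W).hom c) ∧
      (X'.presheaf.germ (f ⁻¹ᵁ W) x hfxW).hom ((f.app W).hom c) =
        B * (X'.presheaf.germ (f ⁻¹ᵁ W) x hfxW).hom c' := by
  classical
  have ha' : IsGen ((Scheme.Modules.pullback f).obj L) (f ⁻¹ᵁ W) (σ f L W a) := isGen_σ f ha
  have hxW' : x ∈ f ⁻¹ᵁ W := hfxW
  by_cases hx : x ∈ Set.range (pullback.fst f i)
  · obtain ⟨z, rfl⟩ := hx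
    have hpt : f (pullback.fst f i z) = i (pullback.snd f i z) := pullback_pt_eq f i z
    have hidW : i (pullback.snd f i z) ∈ W := by rw [← hpt]; exact hfxW
    obtain ⟨t', f', ht', hs't', hker'⟩ := hD'.2 z
    obtain ⟨t, f₀, ht, hst, hker⟩ := hD.2 (pullback.snd f i z)
    obtain ⟨hx0, hx1⟩ := (freeAt_iff (σ f L W a) _ hxW').1 (freeAt_of_isGen ha' _ hxW')
    obtain ⟨hd0, hd1⟩ := (freeAt_iff a (i (pullback.snd f i z)) hidW).1
      (freeAt_of_isGen ha (i (pullback.snd f i z)) hidW)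
    obtain ⟨e₁, e₁', he₁, hce₁⟩ := exists_unit_of_gen _ t' hx0 hx1 ht' _ f'
      ((hc' _ hxW').symm.trans hs't')
    obtain ⟨e₀, e₀', he₀, hce₀⟩ := exists_unit_of_gen _ t hd0 hd1 ht _ f₀
      ((hc _ hidW).symm.trans hst)
    have hce₁' : (X'.presheaf.germ (f ⁻¹ᵁ W) (pullback.fst f i z) hfxW).hom c' = f' * e₁ := hce₁
    have hce₀' : (X.presheaf.germ W (i (pullback.snd f i z)) hidW).hom c = f₀ * e₀ := hce₀
    have hK := ker_stalkMap_fst_le f i z (Ideal.span
      {(X'.presheaf.germ (f ⁻¹ᵁ W) (pullback.fst f i z) hfxW).hom ((f.app W).hom c)}) ?_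
    · have hf'ker : f' ∈ RingHom.ker ((pullback.fst f i).stalkMap z).hom := by
        rw [hker']
        exact Ideal.mem_span_singleton_self f'
      obtain ⟨b₁, hb₁⟩ := Ideal.mem_span_singleton'.mp (hK hf'ker)
      have hc''ker : (X'.presheaf.germ (f ⁻¹ᵁ W) (pullback.fst f i z) hfxW).hom ((f.app W).hom c) ∈
          RingHom.ker ((pullback.fst f i).stalkMap z).hom := by
        rw [RingHom.mem_ker]
        have h0 : (i.stalkMap (pullback.snd f i z)).hom
            ((X.presheaf.germ W (i (pullback.snd f i z)) hidW).hom c) = 0 := by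
          have hm : (X.presheaf.germ W (i (pullback.snd f i z)) hidW).hom c ∈
              RingHom.ker (i.stalkMap (pullback.snd f i z)).hom := by
            rw [hker, hce₀']
            exact Ideal.mul_mem_right _ _ (Ideal.mem_span_singleton_self f₀)
          exact hm
        have h1 := germ_app_eq_zero_of_factor i (pullback.snd f i) (pullback.fst f i ≫ f)
          pullback.condition z W c hfxW hidW h0
        have h2 := Scheme.Hom.germ_stalkMap_apply (pullback.fst f i) (f ⁻¹ᵁ W) z hxW'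
          ((f.app W).hom c)
        exact h2.trans h1
      rw [hker'] at hc''ker
      obtain ⟨b₂, hb₂⟩ := Ideal.mem_span_singleton'.mp hc''ker
      refine ⟨b₁ * e₁, b₂ * e₁', ?_, ?_⟩
      · rw [hce₁', ← hb₁]
        ring
      · rw [hce₁', ← hb₂]
        calc b₂ * f' = b₂ * f' * (e₁ * e₁') := by rw [he₁, mul_one]
          _ = b₂ * e₁' * (f' * e₁) := by ring
    · intro a₁ ha₁
      have hmem : a₁ ∈ RingHom.ker (i.stalkMap (pullback.snd f i z)).hom := ha₁
      rw [hker] at hmem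
      obtain ⟨b, hb⟩ := Ideal.mem_span_singleton'.mp hmem
      have hf₀ : f₀ = (X.presheaf.germ W (i (pullback.snd f i z)) hidW).hom c * e₀' := by
        rw [hce₀', mul_assoc, he₀, mul_one]
      have ha₁' : a₁ = (b * e₀') * (X.presheaf.germ W (i (pullback.snd f i z)) hidW).hom c := by
        rw [← hb]
        conv_lhs => rw [hf₀]
        ring
      rw [ha₁', map_mul, map_mul]
      apply Ideal.mul_mem_left
      have e3 : (X.presheaf.stalkSpecializes (specializes_of_eq (pullback_pt_eq f i z))).hom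
          ((X.presheaf.germ W (i (pullback.snd f i z)) hidW).hom c) =
          (X.presheaf.germ W (f (pullback.fst f i z)) hfxW).hom c :=
        TopCat.Presheaf.germ_stalkSpecializes_apply X.presheaf hidW
          (specializes_of_eq (pullback_pt_eq f i z)) c
      rw [e3]
      have e4 := Scheme.Hom.germ_stalkMap_apply f W (pullback.fst f i z) hfxW c
      have e4' : (f.stalkMap (pullback.fst f i z)).hom
          ((X.presheaf.germ W (f (pullback.fst f i z)) hfxW).hom c) =
          (X'.presheaf.germ (f ⁻¹ᵁ W) (pullback.fst f i z) hfxW).hom ((f.app W).hom c) := e4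
      rw [e4']
      exact Ideal.mem_span_singleton_self _
  · -- both coefficients are units
    have hfx : f x ∉ Set.range i := by
      intro hmem
      apply hx
      rw [Scheme.Pullback.range_fst]
      exact hmem
    have h1 : mkF ((Scheme.Modules.pullback f).obj L) x
        ((((Scheme.Modules.pullback f).obj L).presheaf.germ ⊤ x trivial) s') ≠ 0 := by
      intro h0
      apply hx
      rw [hD'.1]
      exact h0
    have h2 : mkF L (f x) ((L.presheaf.germ ⊤ (f x) trivial) s) ≠ 0 := by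
      intro h0
      apply hfx
      rw [hD.1]
      exact h0
    rw [hc' x hxW'] at h1
    rw [hc (f x) hfxW] at h2
    have hu1 : IsUnit ((X'.presheaf.germ (f ⁻¹ᵁ W) x hfxW).hom c') :=
      (IsLocalRing.residue_ne_zero_iff_isUnit _).1
        (residue_ne_zero_of_mkF_ne_zero ha' x hxW' _ h1)
    have hu0 : IsUnit ((X.presheaf.germ W (f x) hfxW).hom c) :=
      (IsLocalRing.residue_ne_zero_iff_isUnit _).1
        (residue_ne_zero_of_mkF_ne_zero ha (f x) hfxW _ h2)
    have hu2 : IsUnit ((X'.presheaf.germ (f ⁻¹ᵁ W) x hfxW).hom ((f.app W).hom c)) := by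
      have e4 := Scheme.Hom.germ_stalkMap_apply f W x hfxW c
      have e4' : (f.stalkMap x).hom ((X.presheaf.germ W (f x) hfxW).hom c) =
          (X'.presheaf.germ (f ⁻¹ᵁ W) x hfxW).hom ((f.app W).hom c) := e4
      rw [← e4']
      exact hu0.map _
    obtain ⟨u1, hu1'⟩ := hu1
    obtain ⟨u2, hu2'⟩ := hu2
    refine ⟨↑(u1 * u2⁻¹), ↑(u2 * u1⁻¹), ?_, ?_⟩
    · rw [← hu1', ← hu2', ← Units.val_mul, inv_mul_cancel_right]
    · rw [← hu1', ← hu2', ← Units.val_mul, inv_mul_cancel_right]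

/-- away from the zero scheme, a section with the base changed zero scheme and the pulled back
section have the same orders -/
theorem secOrdAt_zeroSection_eq (f : X' ⟶ X) (L : X.Modules) (hL : PicF.IsInvertible L)
    (s : L.presheaf.obj (Opposite.op ⊤))
    (i : D ⟶ X) [IsClosedImmersion i] (hD : Cyc.IsZeroSchemeOf i L s)
    (s' : ((Scheme.Modules.pullback f).obj L).presheaf.obj (Opposite.op ⊤))
    (hD' : Cyc.IsZeroSchemeOf (pullback.fst f i) ((Scheme.Modules.pullback f).obj L) s')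
    (ξ' : X') (hξ' : ξ' ∉ Set.range (pullback.fst f i))
    (τ : Cyc.secFibre ((Scheme.Modules.pullback f).obj L) ξ')
    (hτ : ∀ (x : X') (h : ξ' ⤳ x) (h' : f ξ' ⤳ f x) (W : X.Opens) (a : Γ(L, W))
        (ha : IsGen L W a) (hxW : f x ∈ W) (φ : X.presheaf.stalk (f ξ'))
        (hφ : mkF L (f ξ') ((L.presheaf.germ ⊤ (f ξ') trivial) s) =
          mkF L (f ξ') (φ • L.presheaf.germ W (f ξ') (h'.mem_open W.2 hxW) a)),
        Cyc.secOrdAt ((Scheme.Modules.pullback f).obj L) ξ' x h τ =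
          Cyc.ordAt x ξ' h ((f.residueFieldMap ξ').hom ((X.residue (f ξ')).hom φ)))
    (x : X') (h : ξ' ⤳ x) :
    Cyc.secOrdAt ((Scheme.Modules.pullback f).obj L) ξ' x h
      (mkF ((Scheme.Modules.pullback f).obj L) ξ'
        ((((Scheme.Modules.pullback f).obj L).presheaf.germ ⊤ ξ' trivial) s')) =
      Cyc.secOrdAt ((Scheme.Modules.pullback f).obj L) ξ' x h τ := by
  classical
  obtain ⟨W, a, hfxW, ha⟩ := exists_isGen hL (f x)
  have ha' : IsGen ((Scheme.Modules.pullback f).obj L) (f ⁻¹ᵁ W) (σ f L W a) := isGen_σ f ha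
  have hxW' : x ∈ f ⁻¹ᵁ W := hfxW
  have h' : f ξ' ⤳ f x := h.map f.continuous
  have hξW : f ξ' ∈ W := h'.mem_open W.2 hfxW
  have hξW' : ξ' ∈ f ⁻¹ᵁ W := hξW
  obtain ⟨c, hc⟩ := exists_coeff L ha s
  obtain ⟨c', hc'⟩ := exists_coeff ((Scheme.Modules.pullback f).obj L) ha' s'
  have hφ : mkF L (f ξ') ((L.presheaf.germ ⊤ (f ξ') trivial) s) =
      mkF L (f ξ') ((X.presheaf.germ W (f ξ') hξW).hom c • L.presheaf.germ W (f ξ') hξW a) := by
    rw [hc (f ξ') hξW]
  rw [hc' ξ' hξW', secOrdAt_gen ha' x ξ' hxW' h, hτ x h h' W a ha hfxW _ hφ]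
  -- nonvanishing at the generic points
  have hfξ : f ξ' ∉ Set.range i := by
    intro hmem
    apply hξ'
    rw [Scheme.Pullback.range_fst]
    exact hmem
  have h1 : mkF ((Scheme.Modules.pullback f).obj L) ξ'
      ((((Scheme.Modules.pullback f).obj L).presheaf.germ ⊤ ξ' trivial) s') ≠ 0 := by
    intro h0
    apply hξ'
    rw [hD'.1]
    exact h0
  have h2 : mkF L (f ξ') ((L.presheaf.germ ⊤ (f ξ') trivial) s) ≠ 0 := by
    intro h0
    apply hfξ
    rw [hD.1]
    exact h0
  rw [hc' ξ' hξW'] at h1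
  rw [hc (f ξ') hξW] at h2
  have hr1 : (X'.residue ξ').hom ((X'.presheaf.germ (f ⁻¹ᵁ W) ξ' hξW').hom c') ≠ 0 :=
    residue_ne_zero_of_mkF_ne_zero ha' ξ' hξW' _ h1
  have hr0 : (X.residue (f ξ')).hom ((X.presheaf.germ W (f ξ') hξW).hom c) ≠ 0 :=
    residue_ne_zero_of_mkF_ne_zero ha (f ξ') hξW _ h2
  have e1 : (f.residueFieldMap ξ').hom ((X.residue (f ξ')).hom
      ((X.presheaf.germ W (f ξ') hξW).hom c)) =
      Cyc.specMap x ξ' h ((X'.presheaf.germ (f ⁻¹ᵁ W) x hxW').hom ((f.app W).hom c)) := by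
    rw [specMap_germ, ← residue_stalkMap]
    congr 1
    exact Scheme.Hom.germ_stalkMap_apply f W ξ' hξW c
  have e2 : (X'.residue ξ').hom ((X'.presheaf.germ (f ⁻¹ᵁ W) ξ' hξW').hom c') =
      Cyc.specMap x ξ' h ((X'.presheaf.germ (f ⁻¹ᵁ W) x hxW').hom c') :=
    (specMap_germ x ξ' h _ hxW' c').symm
  have hne2 : Cyc.specMap x ξ' h ((X'.presheaf.germ (f ⁻¹ᵁ W) x hxW').hom ((f.app W).hom c)) ≠
      0 := by
    rw [← e1]
    intro h0
    exact hr0 ((map_eq_zero_iff _ (f.residueFieldMap ξ').hom.injective).1 h0)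
  have hne1 : Cyc.specMap x ξ' h ((X'.presheaf.germ (f ⁻¹ᵁ W) x hxW').hom c') ≠ 0 := by
    rw [← e2]
    exact hr1
  change Cyc.ordAt x ξ' h ((X'.residue ξ').hom ((X'.presheaf.germ (f ⁻¹ᵁ W) ξ' hξW').hom c')) = _
  rw [e1, e2]
  obtain ⟨A, B, hA, hB⟩ := exists_ratio_coeff f L s i hD s' hD' x W a ha hfxW c hc c' hc'
  -- A is a unit
  have hAB : Cyc.specMap x ξ' h (A * B) = 1 := by
    have h3 : Cyc.specMap x ξ' h ((X'.presheaf.germ (f ⁻¹ᵁ W) x hxW').hom c') =
        Cyc.specMap x ξ' h (A * B) *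
          Cyc.specMap x ξ' h ((X'.presheaf.germ (f ⁻¹ᵁ W) x hxW').hom c') := by
      conv_lhs => rw [hA, hB]
      rw [← map_mul, mul_assoc]
    have h4 : (1 : X'.residueField ξ') *
        Cyc.specMap x ξ' h ((X'.presheaf.germ (f ⁻¹ᵁ W) x hxW').hom c') =
        Cyc.specMap x ξ' h (A * B) *
          Cyc.specMap x ξ' h ((X'.presheaf.germ (f ⁻¹ᵁ W) x hxW').hom c') := by
      rw [one_mul]
      exact h3
    exact (mul_right_cancel₀ hne1 h4).symm
  have hABu : IsUnit (A * B) := by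
    by_contra hnu
    have hu : IsUnit (1 - A * B) := IsLocalRing.isUnit_one_sub_self_of_mem_nonunits _ hnu
    have hz : Cyc.specMap x ξ' h (1 - A * B) = 0 := by rw [map_sub, map_one, hAB, sub_self]
    exact (hu.map (Cyc.specMap x ξ' h)).ne_zero hz
  have hAu : IsUnit A := isUnit_of_mul_isUnit_left hABu
  have hA0 : Cyc.specMap x ξ' h A ≠ 0 := (hAu.map (Cyc.specMap x ξ' h)).ne_zero
  conv_lhs => rw [hA]
  rw [map_mul, ordAt_mul x ξ' h hA0 hne2, ordAt_specMap_unit x ξ' h A hAu, zero_add]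

end Groth.Agent.Helper7.ProjF
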