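import Mathlib
import Groth.Prelude.Def_C1
import Groth.Prelude.Def_Cyc
import Groth.Agent.Lib.Helper7.KL.FlatC1Main
import Groth.Agent.Lib.Helper7.ProjF.Zero
import Groth.Agent.Lib.Helper7.ProjF.FibLen
import Groth.Agent.Lib.Helper7.DivFin.C1Indep
import Groth.Agent.Lib.Helper7.DivFin.MV

set_option linter.style.haveILetI false
set_option linter.unusedVariables false
set_option linter.unusedSectionVars false
set_option autoImplicit false
set_option backward.isDefEq.respectTransparency.types false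
set_option synthInstance.maxHeartbeats 400000
set_option maxHeartbeats 1600000

namespace Groth.Agent.Helper7.ProjF

open CategoryTheory CategoryTheory.Limits AlgebraicGeometry TopologicalSpace Opposite IsLocalRing
open Groth.Agent.Helper7.DivFin Groth.Agent.Helper7.KL Groth.Agent.Lead.SecOrd
open Groth.Agent.Helper1.QcCech Groth.Agent.Helper1.LGen Groth.Agent.Lead.RkSch
open Groth.Agent.Helper1.PullSec Groth.Agent.Helper1.PullGen
open Groth.Agent.Helper7.CycLim Groth.Agent.Helper7.CycPull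

universe u

/-! helper7: Gysin maps commute with flat pullback (S1933): function level flat pullback of the cap product, the ratio of Gysin choices, assembly on the base changed zero scheme -/

section FlatFun

variable {X Y : Scheme.{u}}

/-- flat pullback of the cap product equals the cap product of the flat pullback computed with
the pulled back rational sections, coefficientwise -/
theorem flat_c1_fun (δX : X → ℤ) (δY : Y → ℤ) (hX : Cyc.IsSetup X δX)
    (hY : Cyc.IsSetup Y δY) (f : X ⟶ Y) [Flat f] (c : ℤ)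
    (hF : ∀ z : X, δX z ≤ δY (f z) + c) (L : Y.Modules) (hL : PicF.IsInvertible L)
    (α : AlgebraicCycle Y ℤ)
    (v : (ξ : Y) → Cyc.secFibre L ξ) (hv : ∀ ξ, v ξ ≠ 0)
    (τ : (ζ : X) → Cyc.secFibre ((Scheme.Modules.pullback f).obj L) ζ)
    (hτ : ∀ (ζ x : X) (h : ζ ⤳ x) (h' : f ζ ⤳ f x) (W : Y.Opens) (a : Γ(L, W))
      (ha : IsGen L W a) (hxW : f x ∈ W) (φ : Y.presheaf.stalk (f ζ))
      (hφ : v (f ζ) = mkF L (f ζ) (φ • L.presheaf.germ W (f ζ) (h'.mem_open W.2 hxW) a)),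
      Cyc.secOrdAt ((Scheme.Modules.pullback f).obj L) ζ x h (τ ζ) =
        Cyc.ordAt x ζ h ((f.residueFieldMap ζ).hom ((Y.residue (f ζ)).hom φ)))
    (β : AlgebraicCycle X ℤ) (hβ : ⇑β = Cyc.pullFun f δX δY c ⇑α) (x : X) :
    Cyc.pullFun f δX δY c (Cyc.c1CapFun δY L ⇑α v) x =
      Cyc.c1CapFun δX ((Scheme.Modules.pullback f).obj L) ⇑β τ x := by
  haveI : IsLocallyNoetherian X := hX.1
  haveI : IsLocallyNoetherian Y := hY.1
  obtain ⟨n, hn⟩ : ∃ n : X → ℤ, n = fun ζ =>
      ((Module.length (X.presheaf.stalk ζ) (X.presheaf.stalk ζ ⧸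
        Ideal.map (f.stalkMap ζ).hom
          (maximalIdeal (Y.presheaf.stalk (f ζ))))).toNat : ℤ) := ⟨_, rfl⟩
  obtain ⟨S, hS⟩ : ∃ S : X → ℤ, S = fun ζ =>
      Cyc.secDivFun δX ((Scheme.Modules.pullback f).obj L) ζ (τ ζ) x := ⟨_, rfl⟩
  have hβn : ∀ ζ, β ζ = if δX ζ = δY (f ζ) + c then α (f ζ) * n ζ else 0 := by
    intro ζ
    rw [hβ, hn]
    rfl
  have hstep1 : Cyc.pullFun f δX δY c (Cyc.c1CapFun δY L ⇑α v) x =
      ∑ᶠ η : Y, α η * Cyc.pullFun f δX δY c (Cyc.secDivFun δY L η (v η)) x := by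
    unfold Cyc.pullFun Cyc.c1CapFun
    by_cases hcond : δX x = δY (f x) + c
    · rw [if_pos hcond, finsum_mul]
      refine finsum_congr (fun η => ?_)
      rw [if_pos hcond, mul_assoc]
    · rw [if_neg hcond]
      symm
      refine finsum_eq_zero_of_forall_eq_zero (fun η => ?_)
      rw [if_neg hcond, mul_zero]
  have hstep2 : ∀ η : Y, α η * Cyc.pullFun f δX δY c (Cyc.secDivFun δY L η (v η)) x =
      α η * ∑ᶠ ζ : {ζ : X // f ζ = η ∧ δX ζ = δY η + c}, n ζ.1 * S ζ.1 := by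
    intro η
    rw [flat_pull_secDiv δX δY hX hY f c hF L hL v hv τ hτ η x, hn, hS]
  rw [hstep1, finsum_congr hstep2]
  let e : (Σ η : Y, {ζ : X // f ζ = η ∧ δX ζ = δY η + c}) → X := fun j => j.2.1
  have heinj : Function.Injective e := by
    rintro ⟨η, ζ, h1, h2⟩ ⟨η', ζ', h1', h2'⟩ h
    have hz : ζ = ζ' := h
    subst hz
    subst h1
    subst h1'
    rfl
  have hF' : ∀ j : Σ η : Y, {ζ : X // f ζ = η ∧ δX ζ = δY η + c},
      β (e j) * S (e j) = α j.1 * (n j.2.1 * S j.2.1) := by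
    intro j
    show β j.2.1 * S j.2.1 = _
    have hcond : δX j.2.1 = δY (f j.2.1) + c := by
      rw [j.2.2.1]
      exact j.2.2.2
    have hαj : α (f j.2.1) = α j.1 := congrArg (⇑α) j.2.2.1
    rw [hβn, if_pos hcond, hαj, mul_assoc]
  have hsuppF : (Function.support (fun j : Σ η : Y, {ζ : X // f ζ = η ∧ δX ζ = δY η + c} =>
      α j.1 * (n j.2.1 * S j.2.1))).Finite := by
    refine Set.Finite.of_injOn (f := e) (t := {ζ | β ζ ≠ 0 ∧ ζ ⤳ x}) ?_ heinj.injOn
      (finite_support_specializes β x)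
    intro j hj
    rw [Function.mem_support, ← hF' j] at hj
    refine ⟨left_ne_zero_of_mul hj, ?_⟩
    by_contra hns
    apply hj
    have h0 : S (e j) = 0 := by
      rw [hS]
      show Cyc.secDivFun δX ((Scheme.Modules.pullback f).obj L) (e j) (τ (e j)) x = 0
      unfold Cyc.secDivFun
      rw [dif_neg]
      rintro ⟨h, -⟩
      exact hns h
    rw [h0, mul_zero]
  have hsupp : Function.support (fun ζ => β ζ * S ζ) ⊆ Set.range e := by
    intro ζ hζ
    rw [Function.mem_support] at hζ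
    have hb : β ζ ≠ 0 := left_ne_zero_of_mul hζ
    have hcond : δX ζ = δY (f ζ) + c := by
      by_contra hne
      apply hb
      rw [hβn, if_neg hne]
    exact ⟨⟨f ζ, ζ, rfl, hcond⟩, rfl⟩
  unfold Cyc.c1CapFun
  calc ∑ᶠ η : Y, α η * ∑ᶠ ζ : {ζ : X // f ζ = η ∧ δX ζ = δY η + c}, n ζ.1 * S ζ.1
      = ∑ᶠ η : Y, ∑ᶠ ζ : {ζ : X // f ζ = η ∧ δX ζ = δY η + c}, α η * (n ζ.1 * S ζ.1) :=
        finsum_congr (fun η => mul_finsum _ _)
    _ = ∑ᶠ j : Σ η : Y, {ζ : X // f ζ = η ∧ δX ζ = δY η + c}, α j.1 * (n j.2.1 * S j.2.1) :=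
        (finsum_sigma_of_finite _ hsuppF).symm
    _ = ∑ᶠ j : Σ η : Y, {ζ : X // f ζ = η ∧ δX ζ = δY η + c}, β (e j) * S (e j) :=
        finsum_congr (fun j => (hF' j).symm)
    _ = ∑ᶠ ζ ∈ Set.range e, β ζ * S ζ := (finsum_mem_range (f := fun ζ => β ζ * S ζ) heinj).symm
    _ = ∑ᶠ ζ, β ζ * S ζ := by
        rw [finsum_mem_def, Set.indicator_eq_self.mpr hsupp]
    _ = ∑ᶠ ζ, β ζ * Cyc.secDivFun δX ((Scheme.Modules.pullback f).obj L) ζ (τ ζ) x := by
        rw [hS]

end FlatFun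

section Ratio

variable {X' X D : Scheme.{u}}

/-- the ratio of the Gysin choice of sections for the base changed zero scheme and the pulled
back Gysin choice; it is trivial away from the zero scheme -/
theorem exists_ratio_gysin (f : X' ⟶ X) (L : X.Modules) (hL : PicF.IsInvertible L)
    (s : L.presheaf.obj (Opposite.op ⊤))
    (i : D ⟶ X) [IsClosedImmersion i] (hD : Cyc.IsZeroSchemeOf i L s)
    (s' : ((Scheme.Modules.pullback f).obj L).presheaf.obj (Opposite.op ⊤))
    (hD' : Cyc.IsZeroSchemeOf (pullback.fst f i) ((Scheme.Modules.pullback f).obj L) s')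
    (w : (ξ : X) → Cyc.secFibre L ξ)
    (w' : (ξ : X') → Cyc.secFibre ((Scheme.Modules.pullback f).obj L) ξ) (hw' : ∀ ξ, w' ξ ≠ 0)
    (τ : (ξ : X') → Cyc.secFibre ((Scheme.Modules.pullback f).obj L) ξ) (hτ0 : ∀ ξ, τ ξ ≠ 0)
    (hτ : ∀ (ξ x : X') (h : ξ ⤳ x) (h' : f ξ ⤳ f x) (W : X.Opens) (a : Γ(L, W))
        (ha : IsGen L W a) (hxW : f x ∈ W) (φ : X.presheaf.stalk (f ξ))
        (hφ : Cyc.gysinChoice L s w (f ξ) =
          mkF L (f ξ) (φ • L.presheaf.germ W (f ξ) (h'.mem_open W.2 hxW) a)),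
        Cyc.secOrdAt ((Scheme.Modules.pullback f).obj L) ξ x h (τ ξ) =
          Cyc.ordAt x ξ h ((f.residueFieldMap ξ).hom ((X.residue (f ξ)).hom φ)))
    (ξ' : X') :
    ∃ r : X'.residueField ξ', r ≠ 0 ∧
      (ξ' ∉ Set.range (pullback.fst f i) → r = 1) ∧
      ∀ (x : X') (h : ξ' ⤳ x), Cyc.secOrdAt ((Scheme.Modules.pullback f).obj L) ξ' x h
        (Cyc.gysinChoice ((Scheme.Modules.pullback f).obj L) s' w' ξ') =
        Cyc.secOrdAt ((Scheme.Modules.pullback f).obj L) ξ' x h (τ ξ') +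
          Cyc.ordAt x ξ' h r := by
  classical
  have hMinv : PicF.IsInvertible ((Scheme.Modules.pullback f).obj L) :=
    Groth.Agent.Helper1.PullGen.isInvertible_pullback f hL
  have hu' := gysinChoice_ne_zero ((Scheme.Modules.pullback f).obj L) s' w' hw'
  by_cases hξ' : ξ' ∈ Set.range (pullback.fst f i)
  · obtain ⟨r, hr0, hr⟩ := exists_ratio_sections ((Scheme.Modules.pullback f).obj L) hMinv ξ'
      _ (hu' ξ') (τ ξ') (hτ0 ξ')
    exact ⟨r, hr0, fun hn => absurd hξ' hn, hr⟩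
  · refine ⟨1, one_ne_zero, fun _ => rfl, fun x h => ?_⟩
    rw [ordAt_one, add_zero]
    have hfξ : f ξ' ∉ Set.range i := by
      intro hmem
      apply hξ'
      rw [Scheme.Pullback.range_fst]
      exact hmem
    have hu'ξ : Cyc.gysinChoice ((Scheme.Modules.pullback f).obj L) s' w' ξ' =
        mkF ((Scheme.Modules.pullback f).obj L) ξ'
          ((((Scheme.Modules.pullback f).obj L).presheaf.germ ⊤ ξ' trivial) s') := by
      unfold Cyc.gysinChoice
      rw [if_pos]
      · rfl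
      · intro h0
        apply hξ'
        rw [hD'.1]
        exact h0
    have hvξ : Cyc.gysinChoice L s w (f ξ') =
        mkF L (f ξ') ((L.presheaf.germ ⊤ (f ξ') trivial) s) := by
      unfold Cyc.gysinChoice
      rw [if_pos]
      · rfl
      · intro h0
        apply hfξ
        rw [hD.1]
        exact h0
    rw [hu'ξ]
    exact secOrdAt_zeroSection_eq f L hL s i hD s' hD' ξ' hξ' (τ ξ')
      (fun x h h' W a ha hxW φ hφ => hτ ξ' x h h' W a ha hxW φ (hvξ.trans hφ)) x h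

end Ratio

section Main

/-- Gysin maps commute with flat pullback -/
theorem S1933_main (X X' D : Scheme.{u}) (δ : X → ℤ) (δ' : X' → ℤ) (hX : Cyc.IsSetup X δ)
    (hX' : Cyc.IsSetup X' δ') (f : X' ⟶ X) [Flat f] [LocallyOfFiniteType f] (r : ℕ)
    (hr : Cyc.HasRelDim f r) (hδ : Cyc.DeltaCompat f δ' δ) (L : X.Modules)
    (hL : PicF.IsInvertible L) (s : L.presheaf.obj (Opposite.op ⊤)) (i : D ⟶ X)
    [IsClosedImmersion i] (hD : Cyc.IsZeroSchemeOf i L s)
    (s' : ((Scheme.Modules.pullback f).obj L).presheaf.obj (Opposite.op ⊤))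
    (hD' : Cyc.IsZeroSchemeOf (pullback.fst f i) ((Scheme.Modules.pullback f).obj L) s')
    (k : ℤ) (α : AlgebraicCycle X ℤ) (hα : α ∈ Cyc.Zk X δ (k + 1))
    (w : (ξ : X) → Cyc.secFibre L ξ) (hw : ∀ ξ, w ξ ≠ 0)
    (w' : (ξ : X') → Cyc.secFibre ((Scheme.Modules.pullback f).obj L) ξ) (hw' : ∀ ξ, w' ξ ≠ 0)
    (ζ₁ ζ₂ : AlgebraicCycle (pullback f i) ℤ)
    (h₁ : ∀ z, ζ₁ z = Cyc.c1CapFun δ' ((Scheme.Modules.pullback f).obj L)
      (Cyc.pullFun f δ' δ r ⇑α)
      (Cyc.gysinChoice ((Scheme.Modules.pullback f).obj L) s' w') (pullback.fst f i z))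
    (h₂ : ⇑ζ₂ = Cyc.pullFun (pullback.snd f i) (fun z => δ' (pullback.fst f i z))
      (fun d => δ (i d)) r
      (fun d => Cyc.c1CapFun δ L ⇑α (Cyc.gysinChoice L s w) (i d))) :
    Cyc.RatEquiv (fun z => δ' (pullback.fst f i z)) (k + r) ζ₁ ζ₂ := by
  classical
  haveI : IsLocallyNoetherian X' := hX'.1
  haveI : IsLocallyNoetherian X := hX.1
  have hle : ∀ z : X', δ' z ≤ δ (f z) + (r : ℤ) := le_of_hasRelDim f r hr δ' δ hδ
  obtain ⟨β, hβ⟩ := exists_pullCycle δ' δ hX'.2.2 hX.2.2 f (r : ℤ) hle α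
  have hβZ : ∀ ξ', β ξ' ≠ 0 → δ' ξ' = k + r + 1 := by
    intro ξ' hne
    rw [hβ] at hne
    unfold Cyc.pullFun at hne
    by_cases h1 : δ' ξ' = δ (f ξ') + (r : ℤ)
    · rw [if_pos h1] at hne
      have h2 : δ (f ξ') = k + 1 := by
        by_contra h2
        apply hne
        rw [hα (f ξ') h2, zero_mul]
      rw [h1, h2]
      ring
    · rw [if_neg h1] at hne
      exact absurd rfl hne
  have hv := gysinChoice_ne_zero L s w hw
  choose τ hτ0 hτ using fun ξ => exists_pull_section_gen f L hL ξ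
    (Cyc.gysinChoice L s w (f ξ)) (hv (f ξ))
  choose ρ hρ0 hρ1 hord using exists_ratio_gysin f L hL s i hD s' hD' w w' hw' τ hτ0 hτ
  have hlfS : ∀ x : X', ∃ U : Set X', IsOpen U ∧ x ∈ U ∧
      {a : ↥(Function.support β ∩ Set.range (pullback.fst f i)) |
        (closure {a.1} ∩ U).Nonempty}.Finite := by
    intro x
    obtain ⟨t, ht, hfin⟩ := β.supportLocallyFiniteWithinDomain x (Set.mem_univ _)
    refine ⟨interior t, isOpen_interior, mem_interior_iff_mem_nhds.mpr ht, ?_⟩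
    have hmaps : Set.MapsTo
        (fun a : ↥(Function.support β ∩ Set.range (pullback.fst f i)) => a.1)
        {a | (closure {a.1} ∩ interior t).Nonempty} (t ∩ Function.support β) := by
      rintro a ⟨y, hy1, hy2⟩
      have hmem : a.1 ∈ interior t :=
        (specializes_iff_mem_closure.mpr hy1).mem_open isOpen_interior hy2
      exact ⟨interior_subset hmem, a.2.1⟩
    exact Set.Finite.of_injOn hmaps Subtype.val_injective.injOn hfin
  have hfS : ∀ a : ↥(Function.support β ∩ Set.range (pullback.fst f i)),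
      ρ a.1 ^ β a.1 ≠ 0 := fun a => zpow_ne_zero _ (hρ0 a.1)
  obtain ⟨E, hE⟩ := exists_cycle_of_family δ' hX'
    ↥(Function.support β ∩ Set.range (pullback.fst f i)) (fun a => a.1)
    (fun a => ρ a.1 ^ β a.1) hfS hlfS
  have hE' : ∀ x, E x = ∑ᶠ ξ : X', β ξ * Cyc.divFun δ' ξ (ρ ξ) x := by
    intro x
    rw [hE x]
    have h1 : ∀ a : ↥(Function.support β ∩ Set.range (pullback.fst f i)),
        Cyc.divFun δ' a.1 (ρ a.1 ^ β a.1) x = β a.1 * Cyc.divFun δ' a.1 (ρ a.1) x :=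
      fun a => divFun_zpow δ' a.1 (hρ0 a.1) (β a.1) x
    rw [finsum_congr h1]
    apply finsum_subtype_support (Function.support β ∩ Set.range (pullback.fst f i))
      (fun ξ => β ξ * Cyc.divFun δ' ξ (ρ ξ) x)
    intro ξ hξ
    rw [Function.mem_support] at hξ
    refine ⟨?_, ?_⟩
    · rw [Function.mem_support]
      intro h0
      apply hξ
      rw [h0, zero_mul]
    · by_contra hn
      apply hξ
      have h1 : Cyc.divFun δ' ξ (1 : X'.residueField ξ) x = 0 := by
        unfold Cyc.divFun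
        by_cases hc : ξ ⤳ x ∧ δ' x + 1 = δ' ξ
        · rw [dif_pos hc]
          exact ordAt_one x ξ hc.1
        · rw [dif_neg hc]
      rw [hρ1 ξ hn, h1, mul_zero]
  have h2 : ∀ x', Cyc.c1CapFun δ' ((Scheme.Modules.pullback f).obj L) ⇑β
      (Cyc.gysinChoice ((Scheme.Modules.pullback f).obj L) s' w') x' =
      Cyc.c1CapFun δ' ((Scheme.Modules.pullback f).obj L) ⇑β τ x' + E x' := by
    intro x
    rw [hE' x]
    unfold Cyc.c1CapFun
    have hterm : ∀ ξ, β ξ * Cyc.secDivFun δ' ((Scheme.Modules.pullback f).obj L) ξ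
        (Cyc.gysinChoice ((Scheme.Modules.pullback f).obj L) s' w' ξ) x =
        β ξ * Cyc.secDivFun δ' ((Scheme.Modules.pullback f).obj L) ξ (τ ξ) x +
          β ξ * Cyc.divFun δ' ξ (ρ ξ) x := by
      intro ξ
      unfold Cyc.secDivFun Cyc.divFun
      by_cases hc : ξ ⤳ x ∧ δ' x + 1 = δ' ξ
      · rw [dif_pos hc, dif_pos hc, dif_pos hc, hord ξ x hc.1]
        ring
      · rw [dif_neg hc, dif_neg hc, dif_neg hc]
        ring
    have hz : ∀ ξ : X', ¬ (β ξ ≠ 0 ∧ ξ ⤳ x) →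
        β ξ * Cyc.secDivFun δ' ((Scheme.Modules.pullback f).obj L) ξ (τ ξ) x = 0 := by
      intro ξ hn
      by_cases h0 : β ξ = 0
      · rw [h0, zero_mul]
      · have hsp : ¬ ξ ⤳ x := fun hsp => hn ⟨h0, hsp⟩
        unfold Cyc.secDivFun
        rw [dif_neg (fun hc => hsp hc.1), mul_zero]
    have hfint := finite_support_of_weighted β x _ hz
    have hfinF : (Function.support (fun ξ => β ξ * Cyc.divFun δ' ξ (ρ ξ) x)).Finite := by
      apply finite_support_of_weighted β x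
      intro ξ hn
      by_cases h0 : β ξ = 0
      · rw [h0, zero_mul]
      · have hsp : ¬ ξ ⤳ x := fun hsp => hn ⟨h0, hsp⟩
        unfold Cyc.divFun
        rw [dif_neg (fun hc => hsp hc.1), mul_zero]
    rw [finsum_congr hterm, finsum_add_distrib hfint hfinF]
  have hDZ : ∀ z, (ζ₁ - ζ₂) z = E (pullback.fst f i z) := by
    intro z
    rw [Function.locallyFinsuppWithin.coe_sub, Pi.sub_apply, h₁ z, h₂]
    have hA : Cyc.pullFun (pullback.snd f i) (fun z => δ' (pullback.fst f i z))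
        (fun d => δ (i d)) r
        (fun d => Cyc.c1CapFun δ L ⇑α (Cyc.gysinChoice L s w) (i d)) z =
        Cyc.pullFun f δ' δ r (Cyc.c1CapFun δ L ⇑α (Cyc.gysinChoice L s w))
          (pullback.fst f i z) := by
      unfold Cyc.pullFun
      have e1 : δ (f (pullback.fst f i z)) = δ (i (pullback.snd f i z)) :=
        congrArg δ (pullback_pt_eq f i z)
      have e2 : Cyc.c1CapFun δ L ⇑α (Cyc.gysinChoice L s w) (f (pullback.fst f i z)) =
          Cyc.c1CapFun δ L ⇑α (Cyc.gysinChoice L s w) (i (pullback.snd f i z)) :=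
        congrArg _ (pullback_pt_eq f i z)
      simp only []
      rw [e1, e2, length_fibre_pullback f i z]
    rw [hA, flat_c1_fun δ' δ hX' hX f r hle L hL α (Cyc.gysinChoice L s w) hv τ hτ β hβ
      (pullback.fst f i z), ← hβ, h2 (pullback.fst f i z)]
    ring
  have hδS : ∀ a : ↥(Function.support β ∩ Set.range (pullback.fst f i)),
      δ' a.1 = k + r + 1 := fun a => hβZ a.1 a.2.1
  exact ratEquivZero_comap (pullback.fst f i) δ' (k + r)
    ↥(Function.support β ∩ Set.range (pullback.fst f i)) (fun a => a.1)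
    (fun a => ρ a.1 ^ β a.1) hδS hfS hlfS (fun a => a.2.2) E hE (ζ₁ - ζ₂) hDZ

end Main

end Groth.Agent.Helper7.ProjF
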