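import Mathlib
import Groth.Prelude.Def_C1
import Groth.Prelude.Def_Cyc
import Groth.Agent.Lib.Helper7.KL.FlatC1
import Groth.Agent.Lib.Helper7.PushRat.Main
import Groth.Agent.Lib.Helper7.DivFin.C1Indep
import Groth.Agent.Lib.Helper1.PullGen2

set_option linter.style.haveILetI false
set_option linter.unusedVariables false
set_option linter.unusedSectionVars false
set_option autoImplicit false
set_option backward.isDefEq.respectTransparency.types false
set_option synthInstance.maxHeartbeats 400000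
set_option maxHeartbeats 1600000

namespace Groth.Agent.Helper7.ProjF

open CategoryTheory CategoryTheory.Limits AlgebraicGeometry TopologicalSpace Opposite IsLocalRing
open Groth.Agent.Helper7.DivFin Groth.Agent.Helper7.KL Groth.Agent.Helper7.PDeg
open Groth.Agent.Helper7.PushRat Groth.Agent.Lead.SecOrd
open Groth.Agent.Helper1.QcCech Groth.Agent.Helper1.LGen Groth.Agent.Lead.RkSch

universe u

/-! helper7: projection formula for the first Chern class of an invertible module under proper pushforward (S1926): fiberwise finsum, pushforward of the divisor of a pulled back rational section, coefficientwise identity -/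

section Aux

theorem finsum_fiberwise {A B : Type*} (p : A → B) (G : A → ℤ)
    (hG : (Function.support G).Finite) :
    ∑ᶠ b, ∑ᶠ a ∈ p ⁻¹' {b}, G a = ∑ᶠ a, G a := by
  classical
  have h1 : ∑ᶠ a, G a = ∑ a ∈ hG.toFinset, G a :=
    finsum_eq_sum_of_support_subset _ (by rw [Set.Finite.coe_toFinset])
  have h2 : ∀ b, ∑ᶠ a ∈ p ⁻¹' {b}, G a =
      ∑ a ∈ hG.toFinset.filter (fun a => p a = b), G a := by
    intro b
    apply finsum_mem_eq_sum_of_inter_support_eq
    ext a
    constructor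
    · rintro ⟨ha1, ha2⟩
      refine ⟨?_, ha2⟩
      rw [Finset.mem_coe, Finset.mem_filter, Set.Finite.mem_toFinset]
      exact ⟨ha2, ha1⟩
    · rintro ⟨ha1, ha2⟩
      rw [Finset.mem_coe, Finset.mem_filter] at ha1
      exact ⟨ha1.2, ha2⟩
  rw [h1, finsum_congr h2]
  rw [finsum_eq_sum_of_support_subset (s := hG.toFinset.image p)]
  · exact Finset.sum_fiberwise_of_maps_to (fun a ha => Finset.mem_image_of_mem p ha) G
  · intro b hb
    rw [Function.mem_support] at hb
    obtain ⟨a, ha, hne⟩ := Finset.exists_ne_zero_of_sum_ne_zero hb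
    rw [Finset.mem_filter] at ha
    rw [Finset.mem_coe, Finset.mem_image]
    exact ⟨a, ha.1, ha.2⟩

end Aux

variable {X Y : Scheme.{u}} (δX : X → ℤ) (δY : Y → ℤ)

/-- the norm of an element of the base residue field -/
theorem normGen_base (p : X ⟶ Y) (ξ : X) (g : Y.residueField (p ξ)) :
    Cyc.normGen p ξ ((p.residueFieldMap ξ).hom g) = g ^ (p.residueDegree ξ) := by
  unfold Cyc.normGen Scheme.Hom.residueDegree
  letI := (p.residueFieldMap ξ).hom.toAlgebra
  exact Algebra.norm_algebraMap (R := Y.residueField (p ξ)) (S := X.residueField ξ) g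

/-- the divisor of a rational section in terms of a local generator -/
theorem secDivFun_gen (L : Y.Modules) {W : Y.Opens} {a : Γ(L, W)} (ha : IsGen L W a) (η y : Y)
    (hy : y ∈ W) (hη : η ∈ W) (φ : Y.presheaf.stalk η) :
    Cyc.secDivFun δY L η (mkF L η (φ • L.presheaf.germ W η hη a)) y =
      Cyc.divFun δY η ((Y.residue η).hom φ) y := by
  unfold Cyc.secDivFun Cyc.divFun
  by_cases hc : η ⤳ y ∧ δY y + 1 = δY η
  · rw [dif_pos hc, dif_pos hc, secOrdAt_gen ha y η hy hc.1 φ]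
  · rw [dif_neg hc, dif_neg hc]

/-- pushforward of the divisor of a pulled back rational section -/
theorem push_secDiv (hX : Cyc.IsSetup X δX) (hY : Cyc.IsSetup Y δY) (p : X ⟶ Y) [IsProper p]
    (hδ : Cyc.DeltaCompat p δX δY) (L : Y.Modules) (hL : PicF.IsInvertible L) (ξ : X)
    (w : Cyc.secFibre L (p ξ)) (hw : w ≠ 0)
    (τ : Cyc.secFibre ((Scheme.Modules.pullback p).obj L) ξ)
    (hτ : ∀ (x : X) (h : ξ ⤳ x) (h' : p ξ ⤳ p x) (W : Y.Opens) (a : Γ(L, W)) (ha : IsGen L W a)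
        (hxW : p x ∈ W) (φ : Y.presheaf.stalk (p ξ))
        (hφ : w = mkF L (p ξ) (φ • L.presheaf.germ W (p ξ) (h'.mem_open W.2 hxW) a)),
        Cyc.secOrdAt ((Scheme.Modules.pullback p).obj L) ξ x h τ =
          Cyc.ordAt x ξ h ((p.residueFieldMap ξ).hom ((Y.residue (p ξ)).hom φ))) (y : Y) :
    (p ⁻¹' {y} ∩ Function.support
      (fun x => Cyc.secDivFun δX ((Scheme.Modules.pullback p).obj L) ξ τ x)).Finite ∧
    ∑ᶠ x ∈ p ⁻¹' {y}, Cyc.secDivFun δX ((Scheme.Modules.pullback p).obj L) ξ τ x *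
        ((AlgebraicCycle.mapCoeff p δX δY x : ℕ) : ℤ) =
      ((AlgebraicCycle.mapCoeff p δX δY ξ : ℕ) : ℤ) * Cyc.secDivFun δY L (p ξ) w y := by
  classical
  by_cases hsp : p ξ ⤳ y
  · obtain ⟨W, a, hyW, ha⟩ := exists_isGen hL y
    have hηW : p ξ ∈ W := hsp.mem_open W.2 hyW
    obtain ⟨φ, hφ⟩ := exists_eq_mkF_smul ha (p ξ) hηW w
    have hg0 : (Y.residue (p ξ)).hom φ ≠ 0 :=
      residue_ne_zero_of_mkF_ne_zero ha _ hηW φ (by rw [← hφ]; exact hw)
    have hg'0 : (p.residueFieldMap ξ).hom ((Y.residue (p ξ)).hom φ) ≠ 0 := fun h0 =>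
      hg0 ((map_eq_zero_iff _ (p.residueFieldMap ξ).hom.injective).1 h0)
    have hpt : ∀ x ∈ p ⁻¹' {y},
        Cyc.secDivFun δX ((Scheme.Modules.pullback p).obj L) ξ τ x =
          Cyc.divFun δX ξ ((p.residueFieldMap ξ).hom ((Y.residue (p ξ)).hom φ)) x := by
      intro x hx
      have hx' : p x = y := hx
      unfold Cyc.secDivFun Cyc.divFun
      by_cases hc : ξ ⤳ x ∧ δX x + 1 = δX ξ
      · rw [dif_pos hc, dif_pos hc]
        have h' : p ξ ⤳ p x := hc.1.map p.continuous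
        have hxW : p x ∈ W := by rw [hx']; exact hyW
        exact hτ x hc.1 h' W a ha hxW φ hφ
      · rw [dif_neg hc, dif_neg hc]
    obtain ⟨U, ⟨hUo, hUc⟩, hyU, -⟩ :=
      (PrespectralSpace.isTopologicalBasis (X := Y)).exists_subset_of_mem_open
        (Set.mem_univ y) isOpen_univ
    have hT : IsCompact (p ⁻¹' U) := p.isSpectralMap.2 hUo hUc
    have hFT : p ⁻¹' {y} ⊆ p ⁻¹' U := by
      intro x hx
      show p x ∈ U
      have hx' : p x = y := hx
      rw [hx']
      exact hyU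
    refine ⟨?_, ?_⟩
    · obtain ⟨D, hD⟩ := exists_cycle_single δX hX ξ _ hg'0
      refine ((D.locallyFiniteSupport.finite_inter_support_of_isCompact hT).subset
        (Set.inter_subset_inter_left _ hFT)).subset ?_
      rintro x ⟨hx, hxs⟩
      refine ⟨hx, ?_⟩
      rw [Function.mem_support] at hxs ⊢
      have hDx : D x = Cyc.divFun δX ξ
          ((p.residueFieldMap ξ).hom ((Y.residue (p ξ)).hom φ)) x := by rw [hD]
      intro h0
      apply hxs
      rw [hpt x hx, ← hDx]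
      exact h0
    · rw [finsum_mem_congr rfl (fun x hx => by rw [hpt x hx])]
      rw [key δX δY hX hY p hδ ξ _ hg'0 y]
      have hS : Cyc.secDivFun δY L (p ξ) w y = Cyc.divFun δY (p ξ) ((Y.residue (p ξ)).hom φ) y := by
        rw [hφ]
        exact secDivFun_gen δY L ha (p ξ) y hyW hηW φ
      rw [hS]
      unfold AlgebraicCycle.mapCoeff
      by_cases hd : δX ξ = δY (p ξ)
      · rw [if_pos hd, if_pos hd, normGen_base, ← zpow_natCast, divFun_zpow δY (p ξ) hg0]
      · rw [if_neg hd, if_neg hd, Nat.cast_zero, zero_mul]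
  · have hz : ∀ x ∈ p ⁻¹' {y},
        Cyc.secDivFun δX ((Scheme.Modules.pullback p).obj L) ξ τ x = 0 := by
      intro x hx
      have hx' : p x = y := hx
      unfold Cyc.secDivFun
      rw [dif_neg]
      rintro ⟨h1, -⟩
      apply hsp
      rw [← hx']
      exact h1.map p.continuous
    refine ⟨?_, ?_⟩
    · convert Set.finite_empty
      ext x
      constructor
      · rintro ⟨hx, hxs⟩
        exact hxs (hz x hx)
      · intro h
        exact h.elim
    · rw [finsum_mem_eq_zero_of_forall_eq_zero (fun x hx => by rw [hz x hx, zero_mul])]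
      unfold Cyc.secDivFun
      rw [dif_neg (fun hc => hsp hc.1), mul_zero]

/-- the pushforward of the cap product with the pulled back rational sections is the cap product
of the pushforward, coefficientwise -/
theorem push_c1Cap_eq (hX : Cyc.IsSetup X δX) (hY : Cyc.IsSetup Y δY) (p : X ⟶ Y) [IsProper p]
    (hδ : Cyc.DeltaCompat p δX δY) (L : Y.Modules) (hL : PicF.IsInvertible L)
    (α : AlgebraicCycle X ℤ)
    (v : (η : Y) → Cyc.secFibre L η) (hv : ∀ η, v η ≠ 0)
    (τ : (ξ : X) → Cyc.secFibre ((Scheme.Modules.pullback p).obj L) ξ)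
    (hτ : ∀ (ξ x : X) (h : ξ ⤳ x) (h' : p ξ ⤳ p x) (W : Y.Opens) (a : Γ(L, W))
        (ha : IsGen L W a) (hxW : p x ∈ W) (φ : Y.presheaf.stalk (p ξ))
        (hφ : v (p ξ) = mkF L (p ξ) (φ • L.presheaf.germ W (p ξ) (h'.mem_open W.2 hxW) a)),
        Cyc.secOrdAt ((Scheme.Modules.pullback p).obj L) ξ x h (τ ξ) =
          Cyc.ordAt x ξ h ((p.residueFieldMap ξ).hom ((Y.residue (p ξ)).hom φ)))
    (β : AlgebraicCycle X ℤ)
    (hβ : ⇑β = Cyc.c1CapFun δX ((Scheme.Modules.pullback p).obj L) ⇑α τ)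
    (γ' : AlgebraicCycle Y ℤ)
    (hγ' : ⇑γ' = Cyc.c1CapFun δY L ⇑(AlgebraicCycle.map p δX δY α) v) (y : Y) :
    (AlgebraicCycle.map p δX δY β) y = γ' y := by
  classical
  obtain ⟨U, ⟨hUo, hUc⟩, hyU, -⟩ :=
    (PrespectralSpace.isTopologicalBasis (X := Y)).exists_subset_of_mem_open
      (Set.mem_univ y) isOpen_univ
  have hT : IsCompact (p ⁻¹' U) := p.isSpectralMap.2 hUo hUc
  have hTo : IsOpen (p ⁻¹' U) := hUo.preimage p.continuous
  have hFT : p ⁻¹' {y} ⊆ p ⁻¹' U := by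
    intro x hx
    show p x ∈ U
    have hx' : p x = y := hx
    rw [hx']
    exact hyU
  have hfinJ : (p ⁻¹' U ∩ Function.support α).Finite :=
    α.locallyFiniteSupport.finite_inter_support_of_isCompact hT
  have hB1 := fun ξ => push_secDiv δX δY hX hY p hδ L hL ξ (v (p ξ)) (hv (p ξ)) (τ ξ)
    (hτ ξ) y
  -- the left hand side
  change (∑ᶠ x ∈ p ⁻¹' {y}, β x * ((AlgebraicCycle.mapCoeff p δX δY x : ℕ) : ℤ)) = _
  have hx_sum : ∀ x ∈ p ⁻¹' {y}, β x * ((AlgebraicCycle.mapCoeff p δX δY x : ℕ) : ℤ) =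
      ∑ ξ ∈ hfinJ.toFinset, α ξ *
        Cyc.secDivFun δX ((Scheme.Modules.pullback p).obj L) ξ (τ ξ) x *
          ((AlgebraicCycle.mapCoeff p δX δY x : ℕ) : ℤ) := by
    intro x hx
    rw [hβ, ← Finset.sum_mul]
    congr 1
    unfold Cyc.c1CapFun
    apply finsum_eq_sum_of_support_subset
    intro ξ hξ
    rw [Function.mem_support] at hξ
    rw [Finset.mem_coe, Set.Finite.mem_toFinset]
    have h1 : α ξ ≠ 0 := left_ne_zero_of_mul hξ
    have h2 : Cyc.secDivFun δX ((Scheme.Modules.pullback p).obj L) ξ (τ ξ) x ≠ 0 :=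
      right_ne_zero_of_mul hξ
    have hsp : ξ ⤳ x := by
      by_contra hn
      apply h2
      unfold Cyc.secDivFun
      rw [dif_neg (fun h => hn h.1)]
    exact ⟨hsp.mem_open hTo (hFT hx), h1⟩
  rw [finsum_mem_congr rfl hx_sum]
  rw [finsum_mem_finset_sum_comm (p ⁻¹' {y}) hfinJ.toFinset
    (fun ξ x => α ξ * Cyc.secDivFun δX ((Scheme.Modules.pullback p).obj L) ξ (τ ξ) x *
      ((AlgebraicCycle.mapCoeff p δX δY x : ℕ) : ℤ))]
  swap
  · intro ξ _
    refine (hB1 ξ).1.subset ?_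
    rintro x ⟨hx, hxs⟩
    refine ⟨hx, ?_⟩
    rw [Function.mem_support] at hxs ⊢
    intro h0
    apply hxs
    show α ξ * Cyc.secDivFun δX ((Scheme.Modules.pullback p).obj L) ξ (τ ξ) x * _ = 0
    rw [h0, mul_zero, zero_mul]
  have hinner : ∀ ξ ∈ hfinJ.toFinset, ∑ᶠ x ∈ p ⁻¹' {y}, α ξ *
      Cyc.secDivFun δX ((Scheme.Modules.pullback p).obj L) ξ (τ ξ) x *
        ((AlgebraicCycle.mapCoeff p δX δY x : ℕ) : ℤ) =
      α ξ * ((AlgebraicCycle.mapCoeff p δX δY ξ : ℕ) : ℤ) *
        Cyc.secDivFun δY L (p ξ) (v (p ξ)) y := by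
    intro ξ _
    rw [finsum_mem_congr rfl (fun x _ => mul_assoc (α ξ) _ _), ← mul_finsum_mem, (hB1 ξ).2,
      mul_assoc]
  rw [Finset.sum_congr rfl hinner]
  -- the right hand side
  rw [hγ']
  unfold Cyc.c1CapFun
  have hmap : ∀ η : Y, (AlgebraicCycle.map p δX δY α) η =
      ∑ᶠ ξ ∈ p ⁻¹' {η}, α ξ * ((AlgebraicCycle.mapCoeff p δX δY ξ : ℕ) : ℤ) := fun η => rfl
  have hterm : ∀ η : Y, (AlgebraicCycle.map p δX δY α) η * Cyc.secDivFun δY L η (v η) y =
      ∑ᶠ ξ ∈ p ⁻¹' {η}, α ξ * ((AlgebraicCycle.mapCoeff p δX δY ξ : ℕ) : ℤ) *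
        Cyc.secDivFun δY L (p ξ) (v (p ξ)) y := by
    intro η
    rw [hmap η, finsum_mem_mul]
    apply finsum_mem_congr rfl
    intro ξ hξ
    have hξ' : p ξ = η := hξ
    subst hξ'
    rfl
  rw [finsum_congr hterm]
  have hsuppG : Function.support (fun ξ => α ξ * ((AlgebraicCycle.mapCoeff p δX δY ξ : ℕ) : ℤ) *
      Cyc.secDivFun δY L (p ξ) (v (p ξ)) y) ⊆ ↑hfinJ.toFinset := by
    intro ξ hξ
    rw [Function.mem_support] at hξ
    rw [Finset.mem_coe, Set.Finite.mem_toFinset]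
    have h1 : α ξ ≠ 0 := left_ne_zero_of_mul (left_ne_zero_of_mul hξ)
    have h2 : Cyc.secDivFun δY L (p ξ) (v (p ξ)) y ≠ 0 := right_ne_zero_of_mul hξ
    have hsp : p ξ ⤳ y := by
      by_contra hn
      apply h2
      unfold Cyc.secDivFun
      rw [dif_neg (fun h => hn h.1)]
    exact ⟨hsp.mem_open hUo hyU, h1⟩
  rw [finsum_fiberwise (fun ξ : X => p ξ) _ (hfinJ.toFinset.finite_toSet.subset hsuppG)]
  exact (finsum_eq_sum_of_support_subset _ hsuppG).symm

/-- the projection formula for the first Chern class of an invertible module -/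
theorem S1926_main (X Y : Scheme.{u}) (δX : X → ℤ) (δY : Y → ℤ) (hX : Cyc.IsSetup X δX)
    (hY : Cyc.IsSetup Y δY) (p : X ⟶ Y) [IsProper p] (hδ : Cyc.DeltaCompat p δX δY)
    (L : Y.Modules) (hL : PicF.IsInvertible L) (k : ℤ) (α : AlgebraicCycle X ℤ)
    (hα : α ∈ Cyc.Zk X δX (k + 1))
    (u : (ξ : X) → Cyc.secFibre ((Scheme.Modules.pullback p).obj L) ξ) (hu : ∀ ξ, u ξ ≠ 0)
    (v : (η : Y) → Cyc.secFibre L η) (hv : ∀ η, v η ≠ 0) (γ : AlgebraicCycle X ℤ)
    (hγ : ⇑γ = Cyc.c1CapFun δX ((Scheme.Modules.pullback p).obj L) ⇑α u)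
    (γ' : AlgebraicCycle Y ℤ)
    (hγ' : ⇑γ' = Cyc.c1CapFun δY L ⇑(AlgebraicCycle.map p δX δY α) v) :
    Cyc.RatEquiv δY k (AlgebraicCycle.map p δX δY γ) γ' := by
  classical
  have hMinv : PicF.IsInvertible ((Scheme.Modules.pullback p).obj L) :=
    Groth.Agent.Helper1.PullGen.isInvertible_pullback p hL
  choose τ hτ0 hτ using fun ξ => exists_pull_section_gen p L hL ξ (v (p ξ)) (hv (p ξ))
  choose f hf hord using fun ξ => exists_ratio_sections ((Scheme.Modules.pullback p).obj L)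
    hMinv ξ (u ξ) (hu ξ) (τ ξ) (hτ0 ξ)
  have hlf : ∀ x : X, ∃ U : Set X, IsOpen U ∧ x ∈ U ∧
      {i : (Function.support α : Set X) | (closure {i.1} ∩ U).Nonempty}.Finite := by
    intro x
    obtain ⟨t, ht, hfin⟩ := α.supportLocallyFiniteWithinDomain x (Set.mem_univ _)
    refine ⟨interior t, isOpen_interior, mem_interior_iff_mem_nhds.mpr ht, ?_⟩
    have hmaps : Set.MapsTo (fun i : (Function.support α : Set X) => i.1)
        {i | (closure {i.1} ∩ interior t).Nonempty} (t ∩ Function.support α) := by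
      rintro i ⟨y, hy1, hy2⟩
      have hmem : i.1 ∈ interior t :=
        (specializes_iff_mem_closure.mpr hy1).mem_open isOpen_interior hy2
      exact ⟨interior_subset hmem, i.2⟩
    exact Set.Finite.of_injOn hmaps Subtype.val_injective.injOn hfin
  obtain ⟨D, hD⟩ := exists_cycle_of_family δX hX (Function.support α : Set X) (fun i => i.1)
    (fun i => (f i.1) ^ (α i.1)) (fun i => zpow_ne_zero _ (hf i.1)) hlf
  have hD' : ∀ x, D x = ∑ᶠ ξ : X, α ξ * Cyc.divFun δX ξ (f ξ) x := by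
    intro x
    rw [hD x]
    have h1 : ∀ i : (Function.support α : Set X),
        Cyc.divFun δX i.1 (f i.1 ^ α i.1) x = α i.1 * Cyc.divFun δX i.1 (f i.1) x :=
      fun i => divFun_zpow δX i.1 (hf i.1) (α i.1) x
    rw [finsum_congr h1]
    apply finsum_subtype_support (Function.support α) (fun ξ => α ξ * Cyc.divFun δX ξ (f ξ) x)
    intro ξ hξ
    rw [Function.mem_support] at hξ ⊢
    intro h0
    apply hξ
    rw [h0, zero_mul]
  have hD0 : Cyc.RatEquivZero δX k D := ratEquivZero_of_weighted δX k α hα f hf D hD'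
  have hβ : ⇑(γ - D) = Cyc.c1CapFun δX ((Scheme.Modules.pullback p).obj L) ⇑α τ := by
    funext x
    rw [Function.locallyFinsuppWithin.coe_sub, Pi.sub_apply, hγ, hD' x]
    unfold Cyc.c1CapFun
    have hterm : ∀ ξ, α ξ * Cyc.secDivFun δX ((Scheme.Modules.pullback p).obj L) ξ (u ξ) x =
        α ξ * Cyc.secDivFun δX ((Scheme.Modules.pullback p).obj L) ξ (τ ξ) x +
          α ξ * Cyc.divFun δX ξ (f ξ) x := by
      intro ξ
      unfold Cyc.secDivFun Cyc.divFun
      by_cases hc : ξ ⤳ x ∧ δX x + 1 = δX ξ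
      · rw [dif_pos hc, dif_pos hc, dif_pos hc, hord ξ x hc.1]
        ring
      · rw [dif_neg hc, dif_neg hc, dif_neg hc]
        ring
    have hz : ∀ ξ : X, ¬ (α ξ ≠ 0 ∧ ξ ⤳ x) →
        α ξ * Cyc.secDivFun δX ((Scheme.Modules.pullback p).obj L) ξ (τ ξ) x = 0 := by
      intro ξ hn
      by_cases h0 : α ξ = 0
      · rw [h0, zero_mul]
      · have hsp : ¬ ξ ⤳ x := fun hsp => hn ⟨h0, hsp⟩
        unfold Cyc.secDivFun
        rw [dif_neg (fun hc => hsp hc.1), mul_zero]
    have hfint := finite_support_of_weighted α x _ hz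
    have hfinF : (Function.support (fun ξ => α ξ * Cyc.divFun δX ξ (f ξ) x)).Finite := by
      apply finite_support_of_weighted α x
      intro ξ hn
      by_cases h0 : α ξ = 0
      · rw [h0, zero_mul]
      · have hsp : ¬ ξ ⤳ x := fun hsp => hn ⟨h0, hsp⟩
        unfold Cyc.divFun
        rw [dif_neg (fun hc => hsp hc.1), mul_zero]
    rw [finsum_congr hterm, finsum_add_distrib hfint hfinF]
    ring
  have hrat : Cyc.RatEquiv δX k γ (γ - D) := by
    unfold Cyc.RatEquiv
    rw [sub_sub_cancel]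
    exact hD0
  obtain ⟨ι, ζ, g, h1, h2, h3, h4⟩ := PushRat.main X Y δX δY hX hY p hδ k γ (γ - D) hrat
  refine ⟨ι, ζ, g, h1, h2, h3, fun y => ?_⟩
  rw [← h4 y, Function.locallyFinsuppWithin.coe_sub, Pi.sub_apply,
    Function.locallyFinsuppWithin.coe_sub, Pi.sub_apply]
  congr 1
  exact (push_c1Cap_eq δX δY hX hY p hδ L hL α v hv τ hτ (γ - D) hβ γ' hγ' y).symm

end Groth.Agent.Helper7.ProjF
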