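import Mathlib
import Groth.Prelude.Def_C1
import Groth.Prelude.Def_Cyc
import Groth.Agent.Lib.Helper7.ProjF.Main
import Groth.Agent.Lib.Helper7.ProjF.Zero
import Groth.Agent.Lib.Helper7.CycEnv.Exact

set_option linter.style.haveILetI false
set_option linter.unusedVariables false
set_option linter.unusedSectionVars false
set_option autoImplicit false
set_option backward.isDefEq.respectTransparency.types false
set_option synthInstance.maxHeartbeats 400000
set_option maxHeartbeats 1600000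

namespace Groth.Agent.Helper7.ProjF

open CategoryTheory CategoryTheory.Limits AlgebraicGeometry TopologicalSpace Opposite IsLocalRing
open Groth.Agent.Helper7.DivFin Groth.Agent.Helper7.KL Groth.Agent.Helper7.PDeg
open Groth.Agent.Helper7.PushRat Groth.Agent.Lead.SecOrd Groth.Agent.Helper7.CycEnv
open Groth.Agent.Helper1.QcCech Groth.Agent.Helper1.LGen Groth.Agent.Lead.RkSch
open Groth.Agent.Helper1.PullSec Groth.Agent.Helper1.PullGen

universe u

/-! helper7: Gysin maps commute with proper pushforward (S1932): function level projection formula and assembly on the zero scheme -/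

variable {X Y : Scheme.{u}} (δX : X → ℤ) (δY : Y → ℤ)

/-- the pushforward of the cap product with the pulled back rational sections is the cap product
of the pushforward, coefficientwise, at the level of functions -/
theorem push_c1Cap_fun (hX : Cyc.IsSetup X δX) (hY : Cyc.IsSetup Y δY) (p : X ⟶ Y) [IsProper p]
    (hδ : Cyc.DeltaCompat p δX δY) (L : Y.Modules) (hL : PicF.IsInvertible L)
    (α : AlgebraicCycle X ℤ)
    (v : (η : Y) → Cyc.secFibre L η) (hv : ∀ η, v η ≠ 0)
    (τ : (ξ : X) → Cyc.secFibre ((Scheme.Modules.pullback p).obj L) ξ)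
    (hτ : ∀ (ξ x : X) (h : ξ ⤳ x) (h' : p ξ ⤳ p x) (W : Y.Opens) (a : Γ(L, W))
        (ha : IsGen L W a) (hxW : p x ∈ W) (φ : Y.presheaf.stalk (p ξ))
        (hφ : v (p ξ) = mkF L (p ξ) (φ • L.presheaf.germ W (p ξ) (h'.mem_open W.2 hxW) a)),
        Cyc.secOrdAt ((Scheme.Modules.pullback p).obj L) ξ x h (τ ξ) =
          Cyc.ordAt x ξ h ((p.residueFieldMap ξ).hom ((Y.residue (p ξ)).hom φ)))
    (y : Y) :
    (p ⁻¹' {y} ∩ Function.support (fun x =>
      Cyc.c1CapFun δX ((Scheme.Modules.pullback p).obj L) ⇑α τ x *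
        ((AlgebraicCycle.mapCoeff p δX δY x : ℕ) : ℤ))).Finite ∧
    ∑ᶠ x ∈ p ⁻¹' {y}, Cyc.c1CapFun δX ((Scheme.Modules.pullback p).obj L) ⇑α τ x *
        ((AlgebraicCycle.mapCoeff p δX δY x : ℕ) : ℤ) =
      Cyc.c1CapFun δY L ⇑(AlgebraicCycle.map p δX δY α) v y := by
  classical
  obtain ⟨U, ⟨hUo, hUc⟩, hyU, -⟩ :=
    (PrespectralSpace.isTopologicalBasis (X := Y)).exists_subset_of_mem_open
      (Set.mem_univ y) isOpen_univ
  have hT : IsCompact (p ⁻¹' U) := p.isSpectralMap.2 hUo hUc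
  have hTo : IsOpen (p ⁻¹' U) := hUo.preimage p.continuous
  have hFT : p ⁻¹' {y} ⊆ p ⁻¹' U := by
    intro x hx
    show p x ∈ U
    have hx' : p x = y := hx
    rw [hx']
    exact hyU
  have hfinJ : (p ⁻¹' U ∩ Function.support α).Finite :=
    α.locallyFiniteSupport.finite_inter_support_of_isCompact hT
  have hB1 := fun ξ => push_secDiv δX δY hX hY p hδ L hL ξ (v (p ξ)) (hv (p ξ)) (τ ξ)
    (hτ ξ) y
  have hx_sum : ∀ x ∈ p ⁻¹' {y},
      Cyc.c1CapFun δX ((Scheme.Modules.pullback p).obj L) ⇑α τ x *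
        ((AlgebraicCycle.mapCoeff p δX δY x : ℕ) : ℤ) =
      ∑ ξ ∈ hfinJ.toFinset, α ξ *
        Cyc.secDivFun δX ((Scheme.Modules.pullback p).obj L) ξ (τ ξ) x *
          ((AlgebraicCycle.mapCoeff p δX δY x : ℕ) : ℤ) := by
    intro x hx
    rw [← Finset.sum_mul]
    congr 1
    unfold Cyc.c1CapFun
    apply finsum_eq_sum_of_support_subset
    intro ξ hξ
    rw [Function.mem_support] at hξ
    rw [Finset.mem_coe, Set.Finite.mem_toFinset]
    have h1 : α ξ ≠ 0 := left_ne_zero_of_mul hξ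
    have h2 : Cyc.secDivFun δX ((Scheme.Modules.pullback p).obj L) ξ (τ ξ) x ≠ 0 :=
      right_ne_zero_of_mul hξ
    have hsp : ξ ⤳ x := by
      by_contra hn
      apply h2
      unfold Cyc.secDivFun
      rw [dif_neg (fun h => hn h.1)]
    exact ⟨hsp.mem_open hTo (hFT hx), h1⟩
  have hfinG : ∀ ξ ∈ hfinJ.toFinset, (p ⁻¹' {y} ∩ Function.support (fun x => α ξ *
      Cyc.secDivFun δX ((Scheme.Modules.pullback p).obj L) ξ (τ ξ) x *
        ((AlgebraicCycle.mapCoeff p δX δY x : ℕ) : ℤ))).Finite := by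
    intro ξ _
    refine (hB1 ξ).1.subset ?_
    rintro x ⟨hx, hxs⟩
    refine ⟨hx, ?_⟩
    rw [Function.mem_support] at hxs ⊢
    intro h0
    apply hxs
    show α ξ * Cyc.secDivFun δX ((Scheme.Modules.pullback p).obj L) ξ (τ ξ) x * _ = 0
    rw [h0, mul_zero, zero_mul]
  refine ⟨?_, ?_⟩
  · refine (hfinJ.toFinset.finite_toSet.biUnion (fun ξ hξ => hfinG ξ hξ)).subset ?_
    rintro x ⟨hx, hxs⟩
    rw [Function.mem_support, hx_sum x hx] at hxs
    obtain ⟨ξ, hξ, hne⟩ := Finset.exists_ne_zero_of_sum_ne_zero hxs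
    exact Set.mem_iUnion₂.mpr ⟨ξ, hξ, hx, hne⟩
  rw [finsum_mem_congr rfl hx_sum]
  rw [finsum_mem_finset_sum_comm (p ⁻¹' {y}) hfinJ.toFinset
    (fun ξ x => α ξ * Cyc.secDivFun δX ((Scheme.Modules.pullback p).obj L) ξ (τ ξ) x *
      ((AlgebraicCycle.mapCoeff p δX δY x : ℕ) : ℤ)) hfinG]
  have hinner : ∀ ξ ∈ hfinJ.toFinset, ∑ᶠ x ∈ p ⁻¹' {y}, α ξ *
      Cyc.secDivFun δX ((Scheme.Modules.pullback p).obj L) ξ (τ ξ) x *
        ((AlgebraicCycle.mapCoeff p δX δY x : ℕ) : ℤ) =
      α ξ * ((AlgebraicCycle.mapCoeff p δX δY ξ : ℕ) : ℤ) *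
        Cyc.secDivFun δY L (p ξ) (v (p ξ)) y := by
    intro ξ _
    rw [finsum_mem_congr rfl (fun x _ => mul_assoc (α ξ) _ _), ← mul_finsum_mem, (hB1 ξ).2,
      mul_assoc]
  rw [Finset.sum_congr rfl hinner]
  unfold Cyc.c1CapFun
  have hmap : ∀ η : Y, (AlgebraicCycle.map p δX δY α) η =
      ∑ᶠ ξ ∈ p ⁻¹' {η}, α ξ * ((AlgebraicCycle.mapCoeff p δX δY ξ : ℕ) : ℤ) := fun η => rfl
  have hterm : ∀ η : Y, (AlgebraicCycle.map p δX δY α) η * Cyc.secDivFun δY L η (v η) y =
      ∑ᶠ ξ ∈ p ⁻¹' {η}, α ξ * ((AlgebraicCycle.mapCoeff p δX δY ξ : ℕ) : ℤ) *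
        Cyc.secDivFun δY L (p ξ) (v (p ξ)) y := by
    intro η
    rw [hmap η, finsum_mem_mul]
    apply finsum_mem_congr rfl
    intro ξ hξ
    have hξ' : p ξ = η := hξ
    subst hξ'
    rfl
  rw [finsum_congr hterm]
  have hsuppG : Function.support (fun ξ => α ξ * ((AlgebraicCycle.mapCoeff p δX δY ξ : ℕ) : ℤ) *
      Cyc.secDivFun δY L (p ξ) (v (p ξ)) y) ⊆ ↑hfinJ.toFinset := by
    intro ξ hξ
    rw [Function.mem_support] at hξ
    rw [Finset.mem_coe, Set.Finite.mem_toFinset]
    have h1 : α ξ ≠ 0 := left_ne_zero_of_mul (left_ne_zero_of_mul hξ)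
    have h2 : Cyc.secDivFun δY L (p ξ) (v (p ξ)) y ≠ 0 := right_ne_zero_of_mul hξ
    have hsp : p ξ ⤳ y := by
      by_contra hn
      apply h2
      unfold Cyc.secDivFun
      rw [dif_neg (fun h => hn h.1)]
    exact ⟨hsp.mem_open hUo hyU, h1⟩
  rw [finsum_fiberwise (fun ξ : X => p ξ) _ (hfinJ.toFinset.finite_toSet.subset hsuppG)]
  exact (finsum_eq_sum_of_support_subset _ hsuppG).symm

theorem divFun_one {X : Scheme.{u}} (δ : X → ℤ) (ξ x : X) : Cyc.divFun δ ξ 1 x = 0 := by
  unfold Cyc.divFun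
  by_cases hc : ξ ⤳ x ∧ δ x + 1 = δ ξ
  · rw [dif_pos hc]
    exact ordAt_one x ξ hc.1
  · rw [dif_neg hc]

/-- Gysin maps commute with proper pushforward -/
theorem S1932_main (X X' D : Scheme.{u}) (δ : X → ℤ) (δ' : X' → ℤ) (hX : Cyc.IsSetup X δ)
    (hX' : Cyc.IsSetup X' δ') (f : X' ⟶ X) [IsProper f] (hδ : Cyc.DeltaCompat f δ' δ)
    (L : X.Modules) (hL : PicF.IsInvertible L) (s : L.presheaf.obj (Opposite.op ⊤))
    (i : D ⟶ X) [IsClosedImmersion i] (hD : Cyc.IsZeroSchemeOf i L s)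
    (s' : ((Scheme.Modules.pullback f).obj L).presheaf.obj (Opposite.op ⊤))
    (hD' : Cyc.IsZeroSchemeOf (pullback.fst f i) ((Scheme.Modules.pullback f).obj L) s')
    (k : ℤ) (α' : AlgebraicCycle X' ℤ) (hα' : α' ∈ Cyc.Zk X' δ' (k + 1))
    (w : (ξ : X) → Cyc.secFibre L ξ) (hw : ∀ ξ, w ξ ≠ 0)
    (w' : (ξ : X') → Cyc.secFibre ((Scheme.Modules.pullback f).obj L) ξ) (hw' : ∀ ξ, w' ξ ≠ 0)
    (γ : AlgebraicCycle D ℤ)
    (hγ : ∀ d, γ d = Cyc.c1CapFun δ L ⇑(AlgebraicCycle.map f δ' δ α')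
      (Cyc.gysinChoice L s w) (i d))
    (γ' : AlgebraicCycle (pullback f i) ℤ)
    (hγ' : ∀ z, γ' z = Cyc.c1CapFun δ' ((Scheme.Modules.pullback f).obj L) ⇑α'
      (Cyc.gysinChoice ((Scheme.Modules.pullback f).obj L) s' w') (pullback.fst f i z)) :
    Cyc.RatEquiv (fun d => δ (i d)) k γ
      (AlgebraicCycle.map (pullback.snd f i) (fun z => δ' (pullback.fst f i z))
        (fun d => δ (i d)) γ') := by
  classical
  have hMinv : PicF.IsInvertible ((Scheme.Modules.pullback f).obj L) :=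
    Groth.Agent.Helper1.PullGen.isInvertible_pullback f hL
  have hu' := gysinChoice_ne_zero ((Scheme.Modules.pullback f).obj L) s' w' hw'
  have hv := gysinChoice_ne_zero L s w hw
  choose τ hτ0 hτ using fun ξ => exists_pull_section_gen f L hL ξ
    (Cyc.gysinChoice L s w (f ξ)) (hv (f ξ))
  have hratio : ∀ ξ' : X', ∃ r : X'.residueField ξ', r ≠ 0 ∧
      (ξ' ∉ Set.range (pullback.fst f i) → r = 1) ∧
      ∀ (x : X') (h : ξ' ⤳ x), Cyc.secOrdAt ((Scheme.Modules.pullback f).obj L) ξ' x h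
        (Cyc.gysinChoice ((Scheme.Modules.pullback f).obj L) s' w' ξ') =
        Cyc.secOrdAt ((Scheme.Modules.pullback f).obj L) ξ' x h (τ ξ') +
          Cyc.ordAt x ξ' h r := by
    intro ξ'
    by_cases hξ' : ξ' ∈ Set.range (pullback.fst f i)
    · obtain ⟨r, hr0, hr⟩ := exists_ratio_sections ((Scheme.Modules.pullback f).obj L) hMinv ξ'
        _ (hu' ξ') (τ ξ') (hτ0 ξ')
      exact ⟨r, hr0, fun hn => absurd hξ' hn, hr⟩
    · refine ⟨1, one_ne_zero, fun _ => rfl, fun x h => ?_⟩
      rw [ordAt_one, add_zero]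
      have hfξ : f ξ' ∉ Set.range i := by
        intro hmem
        apply hξ'
        rw [Scheme.Pullback.range_fst]
        exact hmem
      have hu'ξ : Cyc.gysinChoice ((Scheme.Modules.pullback f).obj L) s' w' ξ' =
          mkF ((Scheme.Modules.pullback f).obj L) ξ'
            ((((Scheme.Modules.pullback f).obj L).presheaf.germ ⊤ ξ' trivial) s') := by
        unfold Cyc.gysinChoice
        rw [if_pos]
        · rfl
        · intro h0
          apply hξ'
          rw [hD'.1]
          exact h0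
      have hvξ : Cyc.gysinChoice L s w (f ξ') =
          mkF L (f ξ') ((L.presheaf.germ ⊤ (f ξ') trivial) s) := by
        unfold Cyc.gysinChoice
        rw [if_pos]
        · rfl
        · intro h0
          apply hfξ
          rw [hD.1]
          exact h0
      rw [hu'ξ]
      exact secOrdAt_zeroSection_eq f L hL s i hD s' hD' ξ' hξ' (τ ξ')
        (fun x h h' W a ha hxW φ hφ => hτ ξ' x h h' W a ha hxW φ (hvξ.trans hφ)) x h
  choose r hr0 hr1 hord using hratio
  -- the cycle of the ratios, supported on the base changed zero scheme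
  have hlfS : ∀ x : X', ∃ U : Set X', IsOpen U ∧ x ∈ U ∧
      {a : ↥(Function.support α' ∩ Set.range (pullback.fst f i)) |
        (closure {a.1} ∩ U).Nonempty}.Finite := by
    intro x
    obtain ⟨t, ht, hfin⟩ := α'.supportLocallyFiniteWithinDomain x (Set.mem_univ _)
    refine ⟨interior t, isOpen_interior, mem_interior_iff_mem_nhds.mpr ht, ?_⟩
    have hmaps : Set.MapsTo
        (fun a : ↥(Function.support α' ∩ Set.range (pullback.fst f i)) => a.1)
        {a | (closure {a.1} ∩ interior t).Nonempty} (t ∩ Function.support α') := by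
      rintro a ⟨y, hy1, hy2⟩
      have hmem : a.1 ∈ interior t :=
        (specializes_iff_mem_closure.mpr hy1).mem_open isOpen_interior hy2
      exact ⟨interior_subset hmem, a.2.1⟩
    exact Set.Finite.of_injOn hmaps Subtype.val_injective.injOn hfin
  have hfS : ∀ a : ↥(Function.support α' ∩ Set.range (pullback.fst f i)),
      r a.1 ^ α' a.1 ≠ 0 := fun a => zpow_ne_zero _ (hr0 a.1)
  obtain ⟨E, hE⟩ := exists_cycle_of_family δ' hX'
    ↥(Function.support α' ∩ Set.range (pullback.fst f i)) (fun a => a.1)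
    (fun a => r a.1 ^ α' a.1) hfS hlfS
  have hE' : ∀ x, E x = ∑ᶠ ξ : X', α' ξ * Cyc.divFun δ' ξ (r ξ) x := by
    intro x
    rw [hE x]
    have h1 : ∀ a : ↥(Function.support α' ∩ Set.range (pullback.fst f i)),
        Cyc.divFun δ' a.1 (r a.1 ^ α' a.1) x = α' a.1 * Cyc.divFun δ' a.1 (r a.1) x :=
      fun a => divFun_zpow δ' a.1 (hr0 a.1) (α' a.1) x
    rw [finsum_congr h1]
    apply finsum_subtype_support (Function.support α' ∩ Set.range (pullback.fst f i))
      (fun ξ => α' ξ * Cyc.divFun δ' ξ (r ξ) x)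
    intro ξ hξ
    rw [Function.mem_support] at hξ
    refine ⟨?_, ?_⟩
    · rw [Function.mem_support]
      intro h0
      apply hξ
      rw [h0, zero_mul]
    · by_contra hn
      apply hξ
      rw [hr1 ξ hn, divFun_one, mul_zero]
  -- the pushed forward family
  have hδS : ∀ a : ↥(Function.support α' ∩ Set.range (pullback.fst f i)), δ' a.1 = k + 1 := by
    intro a
    by_contra hne
    exact a.2.1 (hα' a.1 hne)
  have hlf₂ : ∀ x : X, ∃ U : Set X, IsOpen U ∧ x ∈ U ∧
      {a : {a : ↥(Function.support α' ∩ Set.range (pullback.fst f i)) // δ (f a.1) = k + 1} |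
        (closure {f a.1.1} ∩ U).Nonempty}.Finite := by
    intro y
    obtain ⟨U, ⟨hUo, hUc⟩, hyU, -⟩ :=
      (PrespectralSpace.isTopologicalBasis (X := X)).exists_subset_of_mem_open
        (Set.mem_univ y) isOpen_univ
    have hT : IsCompact (f ⁻¹' U) := f.isSpectralMap.2 hUo hUc
    refine ⟨U, hUo, hyU, ?_⟩
    have hI₀ := finite_index_of_isCompact
      (fun a : ↥(Function.support α' ∩ Set.range (pullback.fst f i)) => a.1) hlfS (f ⁻¹' U) hT
    refine (hI₀.preimage Subtype.val_injective.injOn).subset ?_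
    rintro a ⟨y', hy'1, hy'2⟩
    have hsp : f a.1.1 ⤳ y' := specializes_iff_mem_closure.mpr hy'1
    have hmem : f a.1.1 ∈ U := hsp.mem_open hUo hy'2
    exact ⟨a.1.1, subset_closure rfl, hmem⟩
  have hrange₂ : ∀ a : {a : ↥(Function.support α' ∩ Set.range (pullback.fst f i)) //
      δ (f a.1) = k + 1}, f a.1.1 ∈ Set.range i := by
    intro a
    obtain ⟨z, hz⟩ := a.1.2.2
    exact ⟨pullback.snd f i z, by rw [← pullback_pt_eq f i z, hz]⟩
  have hE₂ : ∀ y, (AlgebraicCycle.map f δ' δ E) y =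
      ∑ᶠ a : {a : ↥(Function.support α' ∩ Set.range (pullback.fst f i)) //
        δ (f a.1) = k + 1},
        Cyc.divFun δ (f a.1.1) (Cyc.normGen f a.1.1 (r a.1.1 ^ α' a.1.1)) y := by
    intro y
    rw [map_family X' X δ' δ hX' hX f hδ
      ↥(Function.support α' ∩ Set.range (pullback.fst f i)) (fun a => a.1)
      (fun a => r a.1 ^ α' a.1) hfS hlfS E hE y]
    symm
    calc ∑ᶠ a : {a : ↥(Function.support α' ∩ Set.range (pullback.fst f i)) //
          δ (f a.1) = k + 1},
          Cyc.divFun δ (f a.1.1) (Cyc.normGen f a.1.1 (r a.1.1 ^ α' a.1.1)) y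
        = ∑ᶠ (a : ↥(Function.support α' ∩ Set.range (pullback.fst f i)))
            (_ : δ (f a.1) = k + 1),
          Cyc.divFun δ (f a.1) (Cyc.normGen f a.1 (r a.1 ^ α' a.1)) y :=
          finsum_subtype_eq_finsum_cond
            (f := fun a : ↥(Function.support α' ∩ Set.range (pullback.fst f i)) =>
              Cyc.divFun δ (f a.1) (Cyc.normGen f a.1 (r a.1 ^ α' a.1)) y)
            (fun a => δ (f a.1) = k + 1)
      _ = ∑ᶠ a : ↥(Function.support α' ∩ Set.range (pullback.fst f i)),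
            (if δ' a.1 = δ (f a.1) then
              Cyc.divFun δ (f a.1) (Cyc.normGen f a.1 (r a.1 ^ α' a.1)) y else 0) := by
          apply finsum_congr
          intro a
          rw [finsum_eq_if]
          apply if_congr _ rfl rfl
          rw [hδS a]
          exact eq_comm
  -- the comparison on D
  have hDZ : ∀ d, (AlgebraicCycle.map (pullback.snd f i) (fun z => δ' (pullback.fst f i z))
      (fun d => δ (i d)) γ' - γ) d = (AlgebraicCycle.map f δ' δ E) (i d) := by
    intro d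
    rw [Function.locallyFinsuppWithin.coe_sub, Pi.sub_apply]
    have h1 : (AlgebraicCycle.map (pullback.snd f i) (fun z => δ' (pullback.fst f i z))
        (fun d => δ (i d)) γ') d = ∑ᶠ x' ∈ f ⁻¹' {i d},
          Cyc.c1CapFun δ' ((Scheme.Modules.pullback f).obj L) ⇑α'
            (Cyc.gysinChoice ((Scheme.Modules.pullback f).obj L) s' w') x' *
            ((AlgebraicCycle.mapCoeff f δ' δ x' : ℕ) : ℤ) := by
      change (∑ᶠ z ∈ (pullback.snd f i) ⁻¹' {d}, γ' z *
        ((AlgebraicCycle.mapCoeff (pullback.snd f i) (fun z => δ' (pullback.fst f i z))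
          (fun d => δ (i d)) z : ℕ) : ℤ)) = _
      apply finsum_mem_eq_of_bijOn (fun z => pullback.fst f i z)
      · refine ⟨?_, ?_, ?_⟩
        · intro z hz
          have hz' : pullback.snd f i z = d := hz
          show f (pullback.fst f i z) = i d
          rw [pullback_pt_eq f i z, hz']
        · exact (pullback.fst f i).isClosedEmbedding.injective.injOn
        · intro x' hx'
          have hx'' : f x' = i d := hx'
          obtain ⟨z, hz1, hz2⟩ := Scheme.Pullback.exists_preimage_pullback x' d hx''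
          exact ⟨z, hz2, hz1⟩
      · intro z hz
        rw [hγ' z, mapCoeff_sq (pullback.fst f i) i (pullback.snd f i) f
          pullback.condition.symm δ' δ z]
    have h2 : ∀ x', Cyc.c1CapFun δ' ((Scheme.Modules.pullback f).obj L) ⇑α'
        (Cyc.gysinChoice ((Scheme.Modules.pullback f).obj L) s' w') x' =
        Cyc.c1CapFun δ' ((Scheme.Modules.pullback f).obj L) ⇑α' τ x' + E x' := by
      intro x
      rw [hE' x]
      unfold Cyc.c1CapFun
      have hterm : ∀ ξ, α' ξ * Cyc.secDivFun δ' ((Scheme.Modules.pullback f).obj L) ξ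
          (Cyc.gysinChoice ((Scheme.Modules.pullback f).obj L) s' w' ξ) x =
          α' ξ * Cyc.secDivFun δ' ((Scheme.Modules.pullback f).obj L) ξ (τ ξ) x +
            α' ξ * Cyc.divFun δ' ξ (r ξ) x := by
        intro ξ
        unfold Cyc.secDivFun Cyc.divFun
        by_cases hc : ξ ⤳ x ∧ δ' x + 1 = δ' ξ
        · rw [dif_pos hc, dif_pos hc, dif_pos hc, hord ξ x hc.1]
          ring
        · rw [dif_neg hc, dif_neg hc, dif_neg hc]
          ring
      have hz : ∀ ξ : X', ¬ (α' ξ ≠ 0 ∧ ξ ⤳ x) →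
          α' ξ * Cyc.secDivFun δ' ((Scheme.Modules.pullback f).obj L) ξ (τ ξ) x = 0 := by
        intro ξ hn
        by_cases h0 : α' ξ = 0
        · rw [h0, zero_mul]
        · have hsp : ¬ ξ ⤳ x := fun hsp => hn ⟨h0, hsp⟩
          unfold Cyc.secDivFun
          rw [dif_neg (fun hc => hsp hc.1), mul_zero]
      have hfint := finite_support_of_weighted α' x _ hz
      have hfinF : (Function.support (fun ξ => α' ξ * Cyc.divFun δ' ξ (r ξ) x)).Finite := by
        apply finite_support_of_weighted α' x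
        intro ξ hn
        by_cases h0 : α' ξ = 0
        · rw [h0, zero_mul]
        · have hsp : ¬ ξ ⤳ x := fun hsp => hn ⟨h0, hsp⟩
          unfold Cyc.divFun
          rw [dif_neg (fun hc => hsp hc.1), mul_zero]
      rw [finsum_congr hterm, finsum_add_distrib hfint hfinF]
    obtain ⟨hfinτ, hsumτ⟩ := push_c1Cap_fun δ' δ hX' hX f hδ L hL α' (Cyc.gysinChoice L s w) hv
      τ hτ (i d)
    have hfinE : (f ⁻¹' {i d} ∩ Function.support (fun x' => E x' *
        ((AlgebraicCycle.mapCoeff f δ' δ x' : ℕ) : ℤ))).Finite := by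
      obtain ⟨U, ⟨hUo, hUc⟩, hyU, -⟩ :=
        (PrespectralSpace.isTopologicalBasis (X := X)).exists_subset_of_mem_open
          (Set.mem_univ (i d)) isOpen_univ
      have hT : IsCompact (f ⁻¹' U) := f.isSpectralMap.2 hUo hUc
      refine (E.locallyFiniteSupport.finite_inter_support_of_isCompact hT).subset ?_
      rintro x ⟨hx, hxs⟩
      have hx' : f x = i d := hx
      refine ⟨?_, ?_⟩
      · show f x ∈ U
        rw [hx']
        exact hyU
      · rw [Function.mem_support] at hxs ⊢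
        intro h0
        apply hxs
        have h0' : E x = 0 := h0
        rw [h0', zero_mul]
    rw [h1, finsum_mem_congr rfl (fun x' _ => by rw [h2 x', add_mul]),
      finsum_mem_add_distrib' hfinτ hfinE, hsumτ, hγ d, add_sub_cancel_left]
    rfl
  have h0 : Cyc.RatEquivZero (fun d => δ (i d)) k
      (AlgebraicCycle.map (pullback.snd f i) (fun z => δ' (pullback.fst f i z))
        (fun d => δ (i d)) γ' - γ) :=
    ratEquivZero_comap i δ k
      {a : ↥(Function.support α' ∩ Set.range (pullback.fst f i)) // δ (f a.1) = k + 1}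
      (fun a => f a.1.1)
      (fun a => Cyc.normGen f a.1.1 (r a.1.1 ^ α' a.1.1)) (fun a => a.2)
      (fun a => normGen_ne_zero f a.1.1 (r a.1.1 ^ α' a.1.1) (hfS a.1)) hlf₂ hrange₂
      (AlgebraicCycle.map f δ' δ E) hE₂
      (AlgebraicCycle.map (pullback.snd f i) (fun z => δ' (pullback.fst f i z))
        (fun d => δ (i d)) γ' - γ) hDZ
  have h1 := ratEquivZero_neg (fun d => δ (i d)) k _ h0
  rw [neg_sub] at h1
  exact h1

end Groth.Agent.Helper7.ProjF
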