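import Mathlib

set_option linter.style.haveILetI false
set_option linter.unusedVariables false
set_option linter.unusedSectionVars false
set_option autoImplicit false
set_option backward.isDefEq.respectTransparency.types false
set_option synthInstance.maxHeartbeats 400000
set_option maxHeartbeats 1600000

namespace Groth.Agent.Helper7.ProjF

universe u

/-! helper7: a nonzerodivisor with flat quotient stays a nonzerodivisor modulo ideals of the base (equational criterion) -/

/-- if the quotient by a nonzerodivisor is flat over the base, then the nonzerodivisor stays a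
nonzerodivisor modulo every ideal of the base -/
theorem reg_fibre_of_flat_quot {R S T : Type u} [CommRing R] [CommRing S] [CommRing T]
    (φ : R →+* S) (π : S →+* T) (hπ : Function.Surjective π) (g : S)
    (hker : RingHom.ker π = Ideal.span {g}) (hg : ∀ a : S, g * a = 0 → a = 0)
    (hflat : (π.comp φ).Flat) (𝔪 : Ideal R) (z : S) (hz : g * z ∈ Ideal.map φ 𝔪) :
    z ∈ Ideal.map φ 𝔪 := by
  classical
  letI : Algebra R T := (π.comp φ).toAlgebra
  haveI : Module.Flat R T := hflat
  have hz' : g * z ∈ Submodule.span S (φ '' 𝔪) := hz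
  obtain ⟨n, c, e, hsum⟩ := Submodule.mem_span_set'.mp hz'
  choose m hm hme using fun j => (e j).2
  have hπg : π g = 0 := by
    rw [← RingHom.mem_ker, hker]
    exact Ideal.mem_span_singleton_self g
  have hrel : ∑ j, m j • π (c j) = 0 := by
    have h1 : π (∑ j, c j • (e j : S)) = 0 := by rw [hsum, map_mul, hπg, zero_mul]
    rw [map_sum] at h1
    rw [← h1]
    apply Finset.sum_congr rfl
    intro j _
    rw [Algebra.smul_def, smul_eq_mul, map_mul, ← hme j, mul_comm]
    rfl
  obtain ⟨k, a, y, hy, ha⟩ := Module.Flat.isTrivialRelation_of_sum_smul_eq_zero (R := R) (M := T)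
    (f := m) (x := fun j => π (c j)) hrel
  choose yy hyy using fun l => hπ (y l)
  have hmem : ∀ j, c j - ∑ l, φ (a j l) * yy l ∈ Ideal.span {g} := by
    intro j
    have hyj : π (c j) = ∑ l, a j l • y l := hy j
    rw [← hker, RingHom.mem_ker, map_sub, map_sum, hyj, sub_eq_zero]
    apply Finset.sum_congr rfl
    intro l _
    rw [map_mul, hyy l, Algebra.smul_def]
    rfl
  choose t ht using fun j => Ideal.mem_span_singleton'.mp (hmem j)
  have hA : ∑ j, φ (m j) * ∑ l, φ (a j l) * yy l = 0 := by
    simp_rw [Finset.mul_sum]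
    rw [Finset.sum_comm]
    apply Finset.sum_eq_zero
    intro l _
    have h1 : ∑ j, φ (m j) * (φ (a j l) * yy l) = φ (∑ j, m j * a j l) * yy l := by
      rw [map_sum, Finset.sum_mul]
      apply Finset.sum_congr rfl
      intro j _
      rw [map_mul]
      ring
    rw [h1, ha l, map_zero, zero_mul]
  have hfinal : g * z = g * ∑ j, φ (m j) * t j := by
    rw [← hsum]
    have h1 : ∀ j, c j • (e j : S) = φ (m j) * ∑ l, φ (a j l) * yy l + g * (φ (m j) * t j) := by
      intro j
      have h2 : c j = ∑ l, φ (a j l) * yy l + t j * g := by rw [ht j]; ring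
      rw [smul_eq_mul, ← hme j]
      conv_lhs => rw [h2]
      ring
    rw [Finset.sum_congr rfl (fun j _ => h1 j), Finset.sum_add_distrib, hA, zero_add,
      Finset.mul_sum]
  have hzz : z = ∑ j, φ (m j) * t j := by
    have h0 : g * (z - ∑ j, φ (m j) * t j) = 0 := by rw [mul_sub, hfinal, sub_self]
    exact sub_eq_zero.mp (hg _ h0)
  rw [hzz]
  exact Ideal.sum_mem _ (fun j _ => Ideal.mul_mem_right _ _ (Ideal.mem_map_of_mem φ (hm j)))

end Groth.Agent.Helper7.ProjF
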