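import Mathlib
import Groth.Prelude.Def_C1
import Groth.Prelude.Def_Cyc
import Groth.Agent.Lib.Helper7.KL.FlatC1Main
import Groth.Agent.Lib.Helper7.KL.GysinMod
import Groth.Agent.Lib.Helper7.ProjF.Zero
import Groth.Agent.Lib.Helper7.ProjF.FibLen
import Groth.Agent.Lib.Helper7.ProjF.RegFib
import Groth.Agent.Lib.Helper7.PushRat.Sq

set_option linter.style.haveILetI false
set_option linter.unusedVariables false
set_option linter.unusedSectionVars false
set_option autoImplicit false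
set_option backward.isDefEq.respectTransparency.types false
set_option synthInstance.maxHeartbeats 400000
set_option maxHeartbeats 1600000

namespace Groth.Agent.Helper7.ProjF

open CategoryTheory CategoryTheory.Limits AlgebraicGeometry TopologicalSpace Opposite IsLocalRing
open Groth.Agent.Helper7.DivFin Groth.Agent.Helper7.KL Groth.Agent.Lead.SecOrd
open Groth.Agent.Helper1.QcCech Groth.Agent.Helper1.LGen Groth.Agent.Lead.RkSch
open Groth.Agent.Helper1.PullSec Groth.Agent.Helper1.PullGen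
open Groth.Agent.Helper7.CycLim Groth.Agent.Helper7.CycPull Groth.Agent.Helper7.PushRat

universe u

/-! helper7: relative effective Cartier divisors: the local formula for the fibre multiplicity and the Gysin pullback of a flat pullback (S1945) -/

theorem ker_specMap_self {Y : Scheme.{u}} (y : Y) (h : y ⤳ y) :
    RingHom.ker (Cyc.specMap y y h) = maximalIdeal (Y.presheaf.stalk y) := by
  ext a
  rw [RingHom.mem_ker]
  unfold Cyc.specMap
  rw [TopCat.Presheaf.stalkSpecializes_refl, Category.id_comp]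
  exact IsLocalRing.residue_eq_zero_iff a

variable {X Y D : Scheme.{u}}

/-- the local formula for a relative effective Cartier divisor: the multiplicity of the fibre
of the divisor is the sum of the multiplicities of the fibre of the ambient scheme weighted by
the orders of the equation -/
theorem rel_cartier_local (δX : X → ℤ) (δY : Y → ℤ) (hX : Cyc.IsSetup X δX)
    (hY : Cyc.IsSetup Y δY) (p : X ⟶ Y) (r : ℤ) (L : X.Modules)
    (s : L.presheaf.obj (Opposite.op ⊤))
    (hreg : ∀ x : X, Function.Injective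
      (fun a : X.presheaf.stalk x => a • (L.presheaf.germ ⊤ x trivial) s))
    (i : D ⟶ X) [IsClosedImmersion i] (hD : Cyc.IsZeroSchemeOf i L s) [Flat (i ≫ p)]
    (d : D) (h1 : δX (i d) = δY (p (i d)) + r)
    (h2 : ∀ ζ : X, δX ζ ≤ δY (p ζ) + r + 1)
    (h3 : ∀ d' : D, δX (i d') ≤ δY (p (i d')) + r)
    (W : X.Opens) (a : Γ(L, W)) (ha : IsGen L W a) (hxW : i d ∈ W) (c : Γ(X, W))
    (hc : ∀ (y : X) (hy : y ∈ W), (L.presheaf.germ ⊤ y trivial) s =
      (X.presheaf.germ W y hy) c • (L.presheaf.germ W y hy) a) :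
    Finite {ζ : X // ζ ⤳ i d ∧ ζ ≠ i d ∧ p ζ = p (i d)} ∧
    ((Module.length (D.presheaf.stalk d) (D.presheaf.stalk d ⧸
      Ideal.map ((i ≫ p).stalkMap d).hom
        (maximalIdeal (Y.presheaf.stalk ((i ≫ p) d))))).toNat : ℤ) =
      ∑ᶠ t : {ζ : X // ζ ⤳ i d ∧ ζ ≠ i d ∧ p ζ = p (i d)},
        ((Module.length (X.presheaf.stalk t.1) (X.presheaf.stalk t.1 ⧸
          Ideal.map (p.stalkMap t.1).hom
            (maximalIdeal (Y.presheaf.stalk (p t.1))))).toNat : ℤ) *
          Cyc.ordAt (i d) t.1 t.2.1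
            (Cyc.specMap (i d) t.1 t.2.1 ((X.presheaf.germ W (i d) hxW).hom c)) := by
  classical
  haveI : IsLocallyNoetherian X := hX.1
  haveI : IsLocallyNoetherian Y := hY.1
  have hsurj : Function.Surjective (i.stalkMap d).hom := i.stalkMap_surjective d
  -- the equation is a nonzerodivisor
  have hg_reg : ∀ b : X.presheaf.stalk (i d),
      (X.presheaf.germ W (i d) hxW).hom c * b = 0 → b = 0 := by
    intro b hb
    apply hreg (i d)
    show b • (L.presheaf.germ ⊤ (i d) trivial) s = (0 : X.presheaf.stalk (i d)) •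
      (L.presheaf.germ ⊤ (i d) trivial) s
    rw [zero_smul, hc (i d) hxW, smul_smul, mul_comm]
    have hb' : (X.presheaf.germ W (i d) hxW) c * b = 0 := hb
    rw [hb', zero_smul]
  -- the equation generates the ideal of the divisor
  obtain ⟨t', f', ht', hst', hker'⟩ := hD.2 d
  obtain ⟨hd0, hd1⟩ := (freeAt_iff a (i d) hxW).1 (freeAt_of_isGen ha (i d) hxW)
  obtain ⟨e₁, e₁', he₁, hce₁⟩ := exists_unit_of_gen _ t' hd0 hd1 ht' _ f'
    ((hc _ hxW).symm.trans hst')
  have hce₁' : (X.presheaf.germ W (i d) hxW).hom c = f' * e₁ := hce₁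
  have hker : RingHom.ker (i.stalkMap d).hom =
      Ideal.span {(X.presheaf.germ W (i d) hxW).hom c} := by
    rw [hker']
    apply le_antisymm
    · rw [Ideal.span_singleton_le_span_singleton]
      refine ⟨e₁', ?_⟩
      rw [hce₁', mul_assoc, he₁, mul_one]
    · rw [Ideal.span_singleton_le_span_singleton]
      exact ⟨e₁, hce₁'⟩
  have hflat : ((i.stalkMap d).hom.comp (p.stalkMap (i d)).hom).Flat := by
    have h := Flat.stalkMap (i ≫ p) d
    rw [Scheme.Hom.stalkMap_comp] at h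
    exact h
  obtain ⟨I, hIdef⟩ : ∃ I : Ideal (X.presheaf.stalk (i d)),
      I = (RingHom.ker (Cyc.specMap (p (i d)) (p (i d)) specializes_rfl)).map
        (p.stalkMap (i d)).hom := ⟨_, rfl⟩
  have hIdef' : I = (maximalIdeal (Y.presheaf.stalk (p (i d)))).map (p.stalkMap (i d)).hom := by
    rw [hIdef, ker_specMap_self]
  have hIm : I ≤ maximalIdeal (X.presheaf.stalk (i d)) := by
    rw [hIdef']
    exact ((IsLocalRing.local_hom_TFAE (p.stalkMap (i d)).hom).out 0 2 rfl rfl).mp inferInstance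
  have hregI : ∀ z : X.presheaf.stalk (i d),
      (X.presheaf.germ W (i d) hxW).hom c * z ∈ I → z ∈ I := by
    intro z hz
    rw [hIdef'] at hz ⊢
    exact reg_fibre_of_flat_quot (p.stalkMap (i d)).hom (i.stalkMap d).hom hsurj _ hker hg_reg
      hflat _ z hz
  have hK1 : ∀ (ζ : X) (h : ζ ⤳ i d), I ≤ RingHom.ker (Cyc.specMap (i d) ζ h) →
      p ζ = p (i d) := by
    intro ζ h hle
    have h' : p ζ ⤳ p (i d) := h.map p.continuous
    have h'' : p (i d) ⤳ p ζ := by
      refine specializes_of_ker_le (p (i d)) (p (i d)) (p ζ) specializes_rfl h' ?_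
      rw [← comap_ker_specMap_stalkMap p (i d) ζ h h', ← Ideal.map_le_iff_le_comap, ← hIdef]
      exact hle
    exact (h'.antisymm h'').eq
  have hK2 : ∀ (ζ : X) (h : ζ ⤳ i d), p ζ = p (i d) →
      I ≤ RingHom.ker (Cyc.specMap (i d) ζ h) := by
    intro ζ h e
    have h' : p ζ ⤳ p (i d) := h.map p.continuous
    rw [hIdef, Ideal.map_le_iff_le_comap, comap_ker_specMap_stalkMap p (i d) ζ h h']
    exact le_of_eq (ker_specMap_congr (p (i d)) (p (i d)) (p ζ) e.symm specializes_rfl h')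
  have hlt : ∀ ζ : X, ζ ⤳ i d → ζ ≠ i d → δX (i d) < δX ζ :=
    fun ζ h hne => (hX.2.2 ζ (i d) h hne).1
  have hT : ∀ (ζ : X) (h : ζ ⤳ i d), ζ ≠ i d → I ≤ RingHom.ker (Cyc.specMap (i d) ζ h) →
      δX ζ = δX (i d) + 1 := by
    intro ζ h hne hle
    have e := hK1 ζ h hle
    have b1 := h2 ζ
    have b2 := hlt ζ h hne
    rw [e] at b1
    omega
  have hr : ∀ (ζ : X) (h : ζ ⤳ i d), ζ ≠ i d → I ≤ RingHom.ker (Cyc.specMap (i d) ζ h) →
      Cyc.specMap (i d) ζ h ((X.presheaf.germ W (i d) hxW).hom c) ≠ 0 := by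
    intro ζ h hne hle
    have e := hK1 ζ h hle
    have hζW : ζ ∈ W := h.mem_open W.2 hxW
    have hζD : ζ ∉ Set.range i := by
      rintro ⟨d', rfl⟩
      have b1 := h3 d'
      have b2 := hlt (i d') h hne
      rw [e] at b1
      omega
    have hne0 : mkF L ζ ((L.presheaf.germ ⊤ ζ trivial) s) ≠ 0 := by
      intro h0
      apply hζD
      rw [hD.1]
      exact h0
    rw [hc ζ hζW] at hne0
    rw [specMap_germ]
    exact residue_ne_zero_of_mkF_ne_zero ha ζ hζW _ hne0
  have hk6gen : ∀ (ζ : X) (h : ζ ⤳ i d), p ζ = p (i d) →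
      I.map (X.presheaf.stalkSpecializes h).hom =
        (maximalIdeal (Y.presheaf.stalk (p ζ))).map (p.stalkMap ζ).hom := by
    intro ζ h e1
    have h' : p ζ ⤳ p (i d) := h.map p.continuous
    rw [hIdef, ker_specMap_congr (p (i d)) (p (i d)) (p ζ) e1.symm specializes_rfl h']
    exact map_map_ker_eq p (i d) ζ h h'
  obtain ⟨hfinI, hform⟩ := local_formula_rel δX hX.2.2 (i d) I hIm
    ((X.presheaf.germ W (i d) hxW).hom c) hregI hT hr
  let e : {ζ : X // ζ ⤳ i d ∧ ζ ≠ i d ∧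
      ∀ h : ζ ⤳ i d, I ≤ RingHom.ker (Cyc.specMap (i d) ζ h)} →
      {ζ : X // ζ ⤳ i d ∧ ζ ≠ i d ∧ p ζ = p (i d)} := fun t =>
    ⟨t.1, t.2.1, t.2.2.1, hK1 t.1 t.2.1 (t.2.2.2 t.2.1)⟩
  have heinj : Function.Injective e := by
    intro t t' h
    have h1 : (e t).1 = (e t').1 := by rw [h]
    exact Subtype.ext h1
  have hesurj : Function.Surjective e := by
    intro t
    exact ⟨⟨t.1, t.2.1, t.2.2.1, fun h => hK2 t.1 h t.2.2.2⟩, Subtype.ext rfl⟩
  haveI := hfinI
  refine ⟨Finite.of_surjective e hesurj, ?_⟩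
  -- the left hand side
  have hlen : Module.length (D.presheaf.stalk d) (D.presheaf.stalk d ⧸
      Ideal.map ((i ≫ p).stalkMap d).hom (maximalIdeal (Y.presheaf.stalk ((i ≫ p) d)))) =
      Module.length (X.presheaf.stalk (i d)) (X.presheaf.stalk (i d) ⧸
        (I ⊔ Ideal.span {(X.presheaf.germ W (i d) hxW).hom c})) := by
    have hle : RingHom.ker (i.stalkMap d).hom ≤
        I ⊔ Ideal.span {(X.presheaf.germ W (i d) hxW).hom c} := by
      rw [hker]
      exact le_sup_right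
    rw [← length_quot_of_surjective (i.stalkMap d).hom hsurj _ hle]
    have hmap : Ideal.map (i.stalkMap d).hom
        (I ⊔ Ideal.span {(X.presheaf.germ W (i d) hxW).hom c}) =
        Ideal.map ((i ≫ p).stalkMap d).hom (maximalIdeal (Y.presheaf.stalk ((i ≫ p) d))) := by
      have hπg : (i.stalkMap d).hom ((X.presheaf.germ W (i d) hxW).hom c) = 0 := by
        rw [← RingHom.mem_ker, hker]
        exact Ideal.mem_span_singleton_self _
      rw [Ideal.map_sup, Ideal.map_span, Set.image_singleton, hπg, Ideal.span_singleton_zero,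
        sup_bot_eq, hIdef', Ideal.map_map]
      have hcomp : (i.stalkMap d).hom.comp (p.stalkMap (i d)).hom = ((i ≫ p).stalkMap d).hom := by
        rw [Scheme.Hom.stalkMap_comp]
        rfl
      rw [hcomp]
      rfl
    rw [hmap]
  rw [hlen, hform]
  refine finsum_eq_of_bijective e ⟨heinj, hesurj⟩ (fun t => ?_)
  have hk6 : I.map (X.presheaf.stalkSpecializes t.2.1).hom =
      (maximalIdeal (Y.presheaf.stalk (p t.1))).map (p.stalkMap t.1).hom :=
    hk6gen t.1 t.2.1 (e t).2.2.2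
  rw [hk6]

theorem finsum_subtype_of_support {ι : Type*} (P : ι → Prop) (F : ι → ℤ)
    (hF : ∀ i, F i ≠ 0 → P i) : ∑ᶠ i : {i // P i}, F i.1 = ∑ᶠ i, F i :=
  finsum_subtype_support {i | P i} F (fun i hi => hF i hi)

/-- the Gysin pullback of a flat pullback along a relative effective Cartier divisor is the flat
pullback to the divisor -/
theorem S1945_main (X Y D : Scheme.{u}) (δX : X → ℤ) (δY : Y → ℤ) (hX : Cyc.IsSetup X δX)
    (hY : Cyc.IsSetup Y δY) (p : X ⟶ Y) [Flat p] [LocallyOfFiniteType p] (r : ℕ)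
    (hr : Cyc.HasRelDim p (r + 1)) (hδ : Cyc.DeltaCompat p δX δY) (L : X.Modules)
    (hL : PicF.IsInvertible L) (s : L.presheaf.obj (Opposite.op ⊤))
    (hreg : ∀ x : X, Function.Injective
      (fun a : X.presheaf.stalk x => a • (L.presheaf.germ ⊤ x trivial) s))
    (i : D ⟶ X) [IsClosedImmersion i] (hD : Cyc.IsZeroSchemeOf i L s) [Flat (i ≫ p)]
    (hrD : Cyc.HasRelDim (i ≫ p) r) (k : ℤ) (α : AlgebraicCycle Y ℤ)
    (hα : α ∈ Cyc.Zk Y δY (k + 1)) (w : (ξ : X) → Cyc.secFibre L ξ) (hw : ∀ ξ, w ξ ≠ 0)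
    (γ ζ : AlgebraicCycle D ℤ)
    (hγ : ∀ d, γ d = Cyc.c1CapFun δX L (Cyc.pullFun p δX δY (r + 1) ⇑α)
      (Cyc.gysinChoice L s w) (i d))
    (hζ : ⇑ζ = Cyc.pullFun (i ≫ p) (fun d => δX (i d)) δY r ⇑α) :
    Cyc.RatEquiv (fun d => δX (i d)) (k + r + 1) γ ζ := by
  classical
  apply ratEquiv_of_forall_eq
  intro d
  have h2 : ∀ ζ : X, δX ζ ≤ δY (p ζ) + (r : ℤ) + 1 := by
    intro ζ
    have h := le_of_hasRelDim p (r + 1) hr δX δY hδ ζ
    push_cast at h
    linarith
  have hcompat : Cyc.DeltaCompat (i ≫ p) (fun d => δX (i d)) δY :=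
    deltaCompat_sq i (𝟙 Y) (i ≫ p) p (Category.comp_id _) δX δY hδ
  have h3 : ∀ d' : D, δX (i d') ≤ δY (p (i d')) + (r : ℤ) := fun d' =>
    le_of_hasRelDim (i ≫ p) r hrD (fun d => δX (i d)) δY hcompat d'
  have hlt : ∀ ζ : X, ζ ⤳ i d → ζ ≠ i d → δX (i d) < δX ζ :=
    fun ζ h hne => (hX.2.2 ζ (i d) h hne).1
  -- analysis of the nonzero terms
  have hterm : ∀ ξ : X, Cyc.pullFun p δX δY (r + 1) ⇑α ξ *
      Cyc.secDivFun δX L ξ (Cyc.gysinChoice L s w ξ) (i d) ≠ 0 →
      (ξ ⤳ i d ∧ ξ ≠ i d ∧ p ξ = p (i d)) ∧ δX (i d) = δY (p (i d)) + (r : ℤ) := by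
    intro ξ hne
    have hb : Cyc.pullFun p δX δY (r + 1) ⇑α ξ ≠ 0 := left_ne_zero_of_mul hne
    have hs : Cyc.secDivFun δX L ξ (Cyc.gysinChoice L s w ξ) (i d) ≠ 0 := right_ne_zero_of_mul hne
    have ha : δX ξ = δY (p ξ) + ((r : ℤ) + 1) := by
      by_contra hcon
      apply hb
      unfold Cyc.pullFun
      rw [if_neg hcon]
    have hc : ξ ⤳ i d ∧ δX (i d) + 1 = δX ξ := by
      by_contra hcon
      apply hs
      unfold Cyc.secDivFun
      rw [dif_neg hcon]
    have h' : p ξ ⤳ p (i d) := hc.1.map p.continuous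
    have hpe : p ξ = p (i d) := by
      by_contra hpne
      have b1 := (hY.2.2 (p ξ) (p (i d)) h' hpne).1
      have b2 := h3 d
      omega
    refine ⟨⟨hc.1, ?_, hpe⟩, ?_⟩
    · intro he
      rw [he] at hc
      omega
    · rw [hpe] at ha
      omega
  rw [hγ d, hζ]
  unfold Cyc.c1CapFun
  by_cases h1 : δX (i d) = δY (p (i d)) + (r : ℤ)
  swap
  · have hz : Cyc.pullFun (i ≫ p) (fun d => δX (i d)) δY r ⇑α d = 0 := by
      unfold Cyc.pullFun
      rw [if_neg]
      exact h1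
    rw [hz]
    apply finsum_eq_zero_of_forall_eq_zero
    intro ξ
    by_contra hne
    exact h1 (hterm ξ hne).2
  obtain ⟨W, a, hxW, ha⟩ := exists_isGen hL (i d)
  obtain ⟨c, hc⟩ := exists_coeff L ha s
  obtain ⟨hfin, hform⟩ := rel_cartier_local δX δY hX hY p r L s hreg i hD d h1 h2 h3 W a ha hxW c hc
  have hz : Cyc.pullFun (i ≫ p) (fun d => δX (i d)) δY r ⇑α d =
      α (p (i d)) * ((Module.length (D.presheaf.stalk d) (D.presheaf.stalk d ⧸
        Ideal.map ((i ≫ p).stalkMap d).hom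
          (maximalIdeal (Y.presheaf.stalk ((i ≫ p) d))))).toNat : ℤ) := by
    unfold Cyc.pullFun
    rw [if_pos]
    · rfl
    · exact h1
  rw [hz, hform, mul_finsum]
  rw [← finsum_subtype_of_support (fun ζ : X => ζ ⤳ i d ∧ ζ ≠ i d ∧ p ζ = p (i d)) _
    (fun ξ hne => (hterm ξ hne).1)]
  apply finsum_congr
  intro t
  have hδt : δX t.1 = δX (i d) + 1 := by
    have b1 := h2 t.1
    have b2 := hlt t.1 t.2.1 t.2.2.1
    rw [t.2.2.2] at b1
    omega
  have hβt : Cyc.pullFun p δX δY (r + 1) ⇑α t.1 = α (p (i d)) *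
      ((Module.length (X.presheaf.stalk t.1) (X.presheaf.stalk t.1 ⧸
        Ideal.map (p.stalkMap t.1).hom
          (maximalIdeal (Y.presheaf.stalk (p t.1))))).toNat : ℤ) := by
    unfold Cyc.pullFun
    have hcond : δX t.1 = δY (p t.1) + ((r : ℤ) + 1) := by
      rw [t.2.2.2]
      omega
    have hαt : α (p t.1) = α (p (i d)) := congrArg (⇑α) t.2.2.2
    rw [if_pos hcond, hαt]
  have htD : t.1 ∉ Set.range i := by
    rintro ⟨d', hd'⟩
    have b1 := h3 d'
    rw [hd', t.2.2.2] at b1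
    omega
  have hut : Cyc.gysinChoice L s w t.1 = mkF L t.1 ((L.presheaf.germ ⊤ t.1 trivial) s) := by
    unfold Cyc.gysinChoice
    rw [if_pos]
    · rfl
    · intro h0
      apply htD
      rw [hD.1]
      exact h0
  have htW : t.1 ∈ W := t.2.1.mem_open W.2 hxW
  have hst : Cyc.secDivFun δX L t.1 (Cyc.gysinChoice L s w t.1) (i d) =
      Cyc.ordAt (i d) t.1 t.2.1
        (Cyc.specMap (i d) t.1 t.2.1 ((X.presheaf.germ W (i d) hxW).hom c)) := by
    unfold Cyc.secDivFun
    rw [dif_pos ⟨t.2.1, hδt.symm⟩, hut, hc t.1 htW, secOrdAt_gen ha (i d) t.1 hxW t.2.1,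
      specMap_germ]
  rw [hβt, hst, mul_assoc]

end Groth.Agent.Helper7.ProjF
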